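import Groth.Agent.ZCorr.K303.FibEq

/-!
# Members of families of cycles and restriction of the parameter space to an open subscheme
-/

set_option autoImplicit false
set_option linter.unusedSectionVars false
universe u
open AlgebraicGeometry CategoryTheory CategoryTheory.Limits TopologicalSpace Cyc

namespace K303.FibOpen

open Groth.Agent Groth.Agent.CycB Groth.Agent.CycB.LocQuot K303.FibEq

theorem map_ker {P P' : Scheme.{u}} (j : P' ⟶ P) [IsOpenImmersion j] (v w : P') (h' : w ⤳ v)
    (h : j w ⤳ j v) : (RingHom.ker (Cyc.specMap (j v) (j w) h)).map (j.stalkMap v).hom =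
      RingHom.ker (Cyc.specMap v w h') := by
  rw [← CycA.ProdPoint.comap_ker_specMap j h' h]
  exact Ideal.map_comap_of_surjective _ (j.stalkMap_surjective v) _

theorem map_max {P P' : Scheme.{u}} (j : P' ⟶ P) [IsOpenImmersion j] (v : P') :
    (IsLocalRing.maximalIdeal (P.presheaf.stalk (j v))).map (j.stalkMap v).hom =
      IsLocalRing.maximalIdeal (P'.presheaf.stalk v) := by
  have h := map_ker j v v (specializes_refl v) (specializes_refl _)
  rwa [ker_refl, ker_refl] at h

theorem fibreMult_open {P P' C C' : Scheme.{u}} (j : P' ⟶ P) [IsOpenImmersion j] {g' : P' ⟶ C'}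
    {jC : C' ⟶ C} [IsOpenImmersion jC] {g : P ⟶ C} (hj : j ≫ g = g' ≫ jC) (v w : P') (h' : w ⤳ v)
    (h : j w ⤳ j v) : AlgEqCyc.fibreMult g (j v) (j w) h = AlgEqCyc.fibreMult g' v w h' := by
  rw [fibreMult_eq, fibreMult_eq]
  have hbij : Function.Bijective (j.stalkMap v).hom :=
    (ConcreteCategory.isIso_iff_bijective (j.stalkMap v)).1 inferInstance
  rw [FiberMap.length_quot_map_of_surjective (j.stalkMap v).hom hbij.2 _
    (by rw [(RingHom.injective_iff_ker_eq_bot _).1 hbij.1]; exact bot_le), Ideal.map_sup,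
    map_ker j v w h' h, ← FiberMap.map_maximalIdeal_comp, FiberMap.map_maximalIdeal_congr hj,
    FiberMap.map_maximalIdeal_comp, map_max]

section

open AlgEqCyc K952.Slice

variable {k : Type u} [Field k] {X W W' : Scheme.{u}} (p : X ⟶ Spec (CommRingCat.of k))
  (q : W ⟶ Spec (CommRingCat.of k)) (jW : W' ⟶ W) [IsOpenImmersion jW]

/-- The inclusion of `X × W'` in `X × W`. -/
noncomputable def inc : pullback p (jW ≫ q) ⟶ pullback p q :=
  pullback.lift (pullback.fst _ _) (pullback.snd _ _ ≫ jW) (by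
    rw [pullback.condition, Category.assoc])

@[reassoc]
theorem inc_fst : inc p q jW ≫ pullback.fst p q = pullback.fst _ _ := pullback.lift_fst _ _ _

@[reassoc]
theorem inc_snd : inc p q jW ≫ pullback.snd p q = pullback.snd _ _ ≫ jW := pullback.lift_snd _ _ _

theorem isPullback_inc : IsPullback (inc p q jW) (pullback.snd p (jW ≫ q)) (pullback.snd p q) jW := by
  refine IsPullback.of_right (h₁₂ := pullback.fst p q) (h₂₂ := q) (v₁₃ := p) ?_ (inc_snd p q jW)
    (IsPullback.of_hasPullback p q)
  rw [inc_fst]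
  exact IsPullback.of_hasPullback _ _

instance : IsOpenImmersion (inc p q jW) :=
  MorphismProperty.of_isPullback (isPullback_inc p q jW).flip ‹IsOpenImmersion jW›

variable (u : Spec (CommRingCat.of k) ⟶ W') (hu : u ≫ jW ≫ q = 𝟙 _)

theorem slice_inc : slice p (jW ≫ q) u hu ≫ inc p q jW =
    slice p q (u ≫ jW) (by rw [Category.assoc, hu]) := by
  apply pullback.hom_ext
  · rw [Category.assoc, inc_fst, slice_fst, slice_fst]
  · rw [Category.assoc, inc_snd, slice_snd_assoc, slice_snd]

theorem fibreFun_open {Γ : AlgebraicCycle (pullback p q) ℤ}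
    {Γ' : AlgebraicCycle (pullback p (jW ≫ q)) ℤ} (hΓ : ∀ z, Γ' z = Γ (inc p q jW z)) (x : X) :
    fibreFun p (jW ≫ q) Γ' u hu x = fibreFun p q Γ (u ≫ jW) (by rw [Category.assoc, hu]) x := by
  have hv : inc p q jW (slice p (jW ≫ q) u hu x) =
      slice p q (u ≫ jW) (by rw [Category.assoc, hu]) x := by
    rw [← slice_inc]
    rfl
  have hinj : Function.Injective (inc p q jW) := (inc p q jW).isOpenEmbedding.injective
  unfold fibreFun
  let e : {w : ↥(pullback p (jW ≫ q)) // Γ' w ≠ 0 ∧ w ⤳ slice p (jW ≫ q) u hu x} ≃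
      {w : ↥(pullback p q) // Γ w ≠ 0 ∧ w ⤳ slice p q (u ≫ jW) (by rw [Category.assoc, hu]) x} :=
    Equiv.ofBijective (fun w => ⟨inc p q jW w.1, by rw [← hΓ]; exact w.2.1, by
      rw [← hv]; exact w.2.2.map (inc p q jW).continuous⟩) ⟨fun w w' h => by
        apply Subtype.ext
        exact hinj (Subtype.ext_iff.1 h), fun w => by
        obtain ⟨w, h1, h2⟩ := w
        have h3 : w ∈ Set.range (inc p q jW) := h2.mem_open
          (inc p q jW).isOpenEmbedding.isOpen_range ⟨_, hv⟩
        obtain ⟨w', rfl⟩ := h3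
        refine ⟨⟨w', by rw [hΓ]; exact h1, ?_⟩, rfl⟩
        rw [← hv] at h2
        exact (inc p q jW).isOpenEmbedding.isInducing.specializes_iff.1 h2⟩
  refine finsum_eq_of_bijective e e.bijective fun w => ?_
  change _ = Γ (inc p q jW w.1) * _
  rw [← hΓ]
  congr 2
  symm
  have h4 := fibreMult_open (inc p q jW) (inc_snd p q jW) (slice p (jW ≫ q) u hu x) w.1 w.2.2
    (w.2.2.map (inc p q jW).continuous)
  rw [← h4]
  have h5 : ∀ (v : ↥(pullback p q)) (_ : inc p q jW (slice p (jW ≫ q) u hu x) = v)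
      (h : inc p q jW w.1 ⤳ v), fibreMult (pullback.snd p q) v (inc p q jW w.1) h =
      fibreMult (pullback.snd p q) (inc p q jW (slice p (jW ≫ q) u hu x)) (inc p q jW w.1)
        (w.2.2.map (inc p q jW).continuous) := by
    rintro v rfl h
    rfl
  exact h5 _ hv _

end

end K303.FibOpen
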