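import Groth.Agent.ZCorr.K303.GenMain
import Groth.Agent.ZCorr.K303.FibOpen
import Groth.Agent.IntTh.K711.DeltaGen
import Mathlib.Analysis.Complex.Cardinality

/-!
# Bloch and Srinivas: correspondences with rationally trivial fibres
-/

set_option autoImplicit false
set_option linter.unusedSectionVars false
set_option linter.unusedVariables false
universe u
open AlgebraicGeometry CategoryTheory CategoryTheory.Limits Opposite Cyc
open Groth.Agent Groth.Agent.CycB
open K308.Grp K309.Bc K309.Dvr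

namespace K303.BlochSri

open Groth.Agent.CycB.SetupDVR AlgEqCyc K303.FibOpen

/-- **Bloch and Srinivas.** -/
theorem main {L : Type u} [Field L] [IsAlgClosed L] [Uncountable L] {X W : Scheme.{u}}
    (p : X ⟶ Spec (CommRingCat.of L)) (q : W ⟶ Spec (CommRingCat.of L)) [IsProper p]
    [LocallyOfFiniteType q] [QuasiCompact q] [IsSeparated q] [IsIntegral W] (n : ℕ)
    (hdimW : topologicalKrullDim W = n) (δX : X → ℤ)
    (hδX : DeltaCompat p δX (fun _ => 0)) (δ : ↥(pullback p q) → ℤ)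
    (hδ : DeltaCompat (pullback.fst p q ≫ p) δ (fun _ => 0))
    (Γ : AlgebraicCycle (pullback p q) ℤ) (hΓ : Γ ∈ Zk _ δ n) (U : W.Opens)
    (hU : (U : Set W).Nonempty)
    (hzero : ∀ (u : Spec (CommRingCat.of L) ⟶ W) (hu : u ≫ q = 𝟙 _),
      u (IsLocalRing.closedPoint L) ∈ U →
      ∃ β : AlgebraicCycle X ℤ, ⇑β = fibreFun p q Γ u hu ∧ RatEquivZero δX 0 β) :
    ∃ (W' : Set W) (m : ℤ) (Γ' : AlgebraicCycle (pullback p q) ℤ),
      IsClosed W' ∧ W' ≠ Set.univ ∧ m ≠ 0 ∧ Γ' ∈ Zk (pullback p q) δ n ∧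
      (∀ ζ, Γ' ζ ≠ 0 → pullback.snd p q ζ ∈ W') ∧ RatEquiv δ n (m • Γ) Γ' := by
  have i1 : Nonempty U := hU.to_subtype
  have i2 : IsLocallyNoetherian W := LocallyOfFiniteType.isLocallyNoetherian q
  have i3 : CompactSpace W := QuasiCompact.compactSpace_of_compactSpace q
  have i4 : IsNoetherian W := { }
  have i5 : QuasiCompact (U.ι ≫ q) := inferInstance
  have i6 : LocallyOfFiniteType (U.ι ≫ q) := inferInstance
  have i7 : IsSeparated (U.ι ≫ q) := inferInstance
  have i8 : IsIntegral (U : Scheme.{u}) := inferInstance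
  obtain ⟨δW, hδW⟩ := SetupLft.exists_deltaCompat q (fun _ => 0)
  have hgen := K711.DeltaGen.delta_generic q hδW (η := genericPoint W)
    (fun x => genericPoint_specializes x) hdimW
  have hδU : DeltaCompat (U.ι ≫ q) (fun x => δW (U.ι x)) (fun _ => 0) :=
    RelDim.deltaCompat_comp (K930.PushPull.deltaCompat_stalk U.ι) hδW
  have hgenU : δW (U.ι (genericPoint (U : Scheme.{u}))) = n := by
    rw [← hgen]
    congr 1
    exact genericPoint_eq_of_isOpenImmersion U.ι
  let δ' : ↥(pullback p (U.ι ≫ q)) → ℤ := fun z => δ (inc p q U.ι z)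
  have hδ' : DeltaCompat (pullback.fst p (U.ι ≫ q) ≫ p) δ' (fun _ => 0) := by
    have h1 := RelDim.deltaCompat_comp (K930.PushPull.deltaCompat_stalk (inc p q U.ι)) hδ
    rw [inc_fst_assoc] at h1
    exact h1
  let Γ' : AlgebraicCycle (pullback p (U.ι ≫ q)) ℤ :=
    RatTransport.comapCycle (inc p q U.ι) (inc p q U.ι).isOpenEmbedding.injective Γ
  obtain ⟨m, V, Q, j, β, hm, hV, hV0, i9, hj, hβ, hβ0⟩ := GenMain.main p (U.ι ≫ q) hδX hδ' hδU
    hgenU (Γ := Γ') (RatTransport.comapCycle_mem_Zk _ _ _ _ _ hΓ) (fun u hu => by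
      obtain ⟨β, hβ, hβ0⟩ := hzero (u ≫ U.ι) (by rw [Category.assoc, hu])
        ((u (IsLocalRing.closedPoint L)).2)
      refine ⟨β, ?_, hβ0⟩
      rw [hβ]
      funext x
      exact (fibreFun_open p q U.ι u hu (fun _ => rfl) x).symm)
  have hPs : IsSetup (pullback p q) δ :=
    SetupLft.isSetup_of_deltaCompat _ (isSetup_spec_field L) hδ
  let jj : Q ⟶ pullback p q := j ≫ inc p q U.ι
  have hjjc : DeltaCompat jj (fun z => δ (jj z)) δ := K930.PushPull.deltaCompat_stalk jj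
  have hjjs : IsSetup Q (fun z => δ (jj z)) := SetupLft.isSetup_of_deltaCompat jj hPs hjjc
  have hmΓ : m • Γ ∈ Zk _ δ n := by
    intro y hy
    rw [Function.locallyFinsuppWithin.coe_zsmul, Pi.smul_apply, hΓ y hy, smul_zero]
  obtain ⟨γ, hγ1, hγ2, hγ3⟩ := SpreadGen.exists_supported hPs hjjs jj
    (K930.OpenImm.shift_open jj hjjc) hmΓ (by
      rw [pull_cl hjjs hPs jj (K930.OpenImm.shift_open jj hjjc) (β := β) (by
        funext z
        rw [K930.OpenImm.pullFun_open jj hjjc, hβ]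
        rfl)]
      exact cl_eq_zero_of_ratEquivZero (k := n) hβ0)
  refine ⟨(U.ι '' V)ᶜ, m, γ, ?_, ?_, hm, hγ1, fun ζ hζ hζ' => hζ (hγ2 ζ ?_), hγ3⟩
  · exact (U.ι.isOpenEmbedding.isOpenMap V hV).isClosed_compl
  · obtain ⟨v, hv⟩ := hV0
    intro h
    have : U.ι v ∈ (U.ι '' V)ᶜ := by rw [h]; trivial
    exact this ⟨v, hv, rfl⟩
  · obtain ⟨v, hv, hv'⟩ := hζ'
    have h1 : ζ ∈ Set.range (inc p q U.ι) := by
      rw [range_of_isPullback (isPullback_inc p q U.ι)]
      exact ⟨v, hv'⟩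
    obtain ⟨z, rfl⟩ := h1
    have h2 : pullback.snd p (U.ι ≫ q) z = v := by
      apply U.ι.isOpenEmbedding.injective
      rw [hv', ← Scheme.Hom.comp_apply, ← Scheme.Hom.comp_apply, inc_snd]
    have h3 : z ∈ Set.range j := by
      rw [hj]
      change pullback.snd p (U.ι ≫ q) z ∈ V
      rw [h2]
      exact hv
    obtain ⟨y, rfl⟩ := h3
    exact ⟨y, rfl⟩

end K303.BlochSri
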