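import Groth.Agent.ZCorr.K303.LimAlg
import Groth.Agent.Etcore.FGLim
import Groth.Agent.Cyc.K309.ProdCl
import Mathlib.RingTheory.Localization.AsSubring

/-!
# Spreading out a rational equivalence from the generic point of an affine scheme
-/

set_option autoImplicit false
set_option linter.unusedSectionVars false
set_option linter.unusedVariables false
universe u
open AlgebraicGeometry CategoryTheory CategoryTheory.Limits Opposite Cyc
open Groth.Agent Groth.Agent.CycB
open K308.Grp K309.Bc K309.Dvr

namespace K303.AffGen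

open Groth.Agent.CycB.SetupDVR

variable (A K : Type u) [CommRing A] [IsDomain A] [Field K] [Algebra A K] [IsFractionRing A K]

/-- The localisations of `A` at one element, as subalgebras of the fraction field. -/
def Idx : Type u := {B : Subalgebra A K // ∃ f : A, IsLocalization.Away f B}

instance : PartialOrder (Idx A K) := inferInstanceAs (PartialOrder {B : Subalgebra A K // _})

/-- the directed system -/
noncomputable def F : Idx A K ⥤ CommRingCat.{u} where
  obj B := CommRingCat.of B.1
  map {B B'} h := CommRingCat.ofHom (Subalgebra.inclusion h.le).toRingHom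

/-- the cocone with vertex `K` -/
noncomputable def c : Cocone (F A K) where
  pt := CommRingCat.of K
  ι :=
    { app := fun B => CommRingCat.ofHom B.1.val.toRingHom
      naturality := fun _ _ _ => rfl }

/-- `A` maps to the stages -/
noncomputable def s (B : Idx A K) : CommRingCat.of A ⟶ (F A K).obj B :=
  CommRingCat.ofHom (algebraMap A B.1)

/-- `A` maps to `K` -/
noncomputable def t : CommRingCat.of A ⟶ (c A K).pt := CommRingCat.ofHom (algebraMap A K)

theorem hs {i j : Idx A K} (g : i ⟶ j) : s A K i ≫ (F A K).map g = s A K j := rfl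

theorem ht (i : Idx A K) : s A K i ≫ (c A K).ι.app i = t A K := rfl

variable {A} in
theorem powers_le {f : A} (hf : f ≠ 0) : Submonoid.powers f ≤ nonZeroDivisors A := by
  rw [Submonoid.powers_le]
  exact mem_nonZeroDivisors_of_ne_zero hf

variable {A} in
/-- the localisation at `f ≠ 0` -/
noncomputable def loc {f : A} (hf : f ≠ 0) : Idx A K :=
  ⟨Localization.subalgebra.ofField K (Submonoid.powers f) (powers_le hf), f,
    Localization.subalgebra.isLocalization_ofField K (Submonoid.powers f) (powers_le hf)⟩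

variable {A K} in
theorem ne_zero (i : Idx A K) {f : A} (h : IsLocalization.Away f i.1) : f ≠ 0 := by
  rintro rfl
  have h1 := IsLocalization.Away.algebraMap_isUnit (S := i.1) (0 : A)
  rw [map_zero] at h1
  exact not_isUnit_zero h1

variable {A K} in
theorem le_loc (i : Idx A K) {f : A} (h : IsLocalization.Away f i.1) {g : A} (hg : g ≠ 0)
    (hfg : f ∣ g) : i ≤ loc K hg := by
  intro x hx
  obtain ⟨⟨a, ⟨_, n, rfl⟩⟩, hn⟩ := IsLocalization.surj (Submonoid.powers f) (⟨x, hx⟩ : i.1)
  obtain ⟨e, rfl⟩ := hfg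
  have h1 : x * algebraMap A K f ^ n = algebraMap A K a := by
    have := congrArg Subtype.val hn
    rw [← map_pow]
    exact this
  have hf0 : algebraMap A K f ≠ 0 := by
    rw [Ne, IsFractionRing.to_map_eq_zero_iff]
    exact left_ne_zero_of_mul hg
  have he0 : algebraMap A K e ≠ 0 := by
    rw [Ne, IsFractionRing.to_map_eq_zero_iff]
    exact right_ne_zero_of_mul hg
  refine ⟨a * e ^ n, (f * e) ^ n, ⟨n, rfl⟩, ?_⟩
  rw [map_mul, map_pow, map_pow, map_mul, ← h1, mul_pow]
  field_simp

theorem isDirected : IsDirected (Idx A K) (fun a b => a ≤ b) := ⟨fun a b => by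
  obtain ⟨f, hf⟩ := a.2
  obtain ⟨g, hg⟩ := b.2
  have h : f * g ≠ 0 := mul_ne_zero (ne_zero a hf) (ne_zero b hg)
  exact ⟨loc K h, le_loc a hf h (dvd_mul_right _ _), le_loc b hg h (dvd_mul_left _ _)⟩⟩

/-- the least index -/
noncomputable def i0 : Idx A K := ⟨⊥, 1, by
  have h1 : Function.Bijective (algebraMap A (⊥ : Subalgebra A K)) := by
    constructor
    · intro x y hxy
      exact IsFractionRing.injective A K (congrArg Subtype.val hxy)
    · rintro ⟨x, hx⟩
      obtain ⟨y, rfl⟩ := Algebra.mem_bot.1 hx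
      exact ⟨y, rfl⟩
  exact IsLocalization.away_of_isUnit_of_bijective _ isUnit_one h1⟩

theorem hi0 (i : Idx A K) : i0 A K ≤ i := by
  have : (⊥ : Subalgebra A K) ≤ i.1 := bot_le
  exact this

theorem nonempty_isColimit : Nonempty (IsColimit (c A K)) := by
  have := isDirected A K
  have : Nonempty (Idx A K) := ⟨i0 A K⟩
  apply Etcore.FGLim.nonempty_isColimit
  · intro (x : K)
    obtain ⟨a, b, hb, rfl⟩ := IsFractionRing.div_surjective A x
    have hb0 : b ≠ 0 := nonZeroDivisors.ne_zero hb
    exact ⟨loc K hb0, ⟨_, a, b, ⟨1, pow_one _⟩, div_eq_mul_inv _ _⟩, rfl⟩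
  · intro B y z h
    exact ⟨B, 𝟙 B, congrArg _ (Subtype.ext h)⟩

instance isOpenImmersion_s (i : Idx A K) : IsOpenImmersion (Spec.map (s A K i)) := by
  obtain ⟨f, hf⟩ := i.2
  exact IsOpenImmersion.of_isLocalization (S := i.1) f

instance isOpenImmersion_F {i j : Idx A K} (g : i ⟶ j) :
    IsOpenImmersion (Spec.map ((F A K).map g)) := by
  have h : IsOpenImmersion (Spec.map ((F A K).map g) ≫ Spec.map (s A K i)) := by
    rw [← Spec.map_comp, hs]
    infer_instance
  exact IsOpenImmersion.of_comp _ (Spec.map (s A K i))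

theorem flat_c (i : Idx A K) : Flat (Spec.map ((c A K).ι.app i)) := by
  rw [HasRingHomProperty.Spec_iff (P := @Flat)]
  have : IsFractionRing i.1 K := inferInstance
  have h : Module.Flat i.1 K := IsLocalization.flat K (nonZeroDivisors i.1)
  exact h

theorem isSetup_const (n : ℤ) : IsSetup (Spec (CommRingCat.of K)) (fun _ => n) := by
  obtain ⟨h1, h2, h3⟩ := isSetup_spec_field K
  refine ⟨h1, h2, fun x y hxy hne => ?_⟩
  exact (hne (Subsingleton.elim (α := PrimeSpectrum K) x y)).elim

variable {A K}

theorem dat {δ : Spec (CommRingCat.of A) → ℤ} (hA : IsSetup (Spec (CommRingCat.of A)) δ) {n : ℤ}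
    (hn : ∀ x, δ (Spec.map (t A K) x) = n) :
    LimAlg.Dat (F A K) (s A K) (c A K) δ (fun i x => δ (Spec.map (s A K i) x)) (fun _ => n) where
  setS := hA
  setF i := SetupLft.isSetup_of_deltaCompat (Spec.map (s A K i)) hA
    (K930.PushPull.deltaCompat_stalk (Spec.map (s A K i)))
  setc := isSetup_const K n
  fs i := inferInstance
  fF g := inferInstance
  fc i := flat_c A K i
  ss i x _ := (add_zero _).symm
  sF {i j} g x _ := by
    have h1 : Spec.map (s A K j) = Spec.map ((F A K).map g) ≫ Spec.map (s A K i) := by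
      rw [← Spec.map_comp, hs]
    change δ (Spec.map (s A K j) x) = δ (Spec.map (s A K i) (Spec.map ((F A K).map g) x)) + 0
    rw [add_zero, h1, Scheme.Hom.comp_apply]
  sc i x _ := by
    have h1 : Spec.map (t A K) = Spec.map ((c A K).ι.app i) ≫ Spec.map (s A K i) := by
      rw [← Spec.map_comp, ht]
    change n = δ (Spec.map (s A K i) (Spec.map ((c A K).ι.app i) x)) + 0
    have h2 := hn x
    rw [h1, Scheme.Hom.comp_apply] at h2
    rw [add_zero]
    exact h2.symm

/-- **Spreading out.** A class on `X → Spec A` which vanishes over the generic point of `Spec A`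
vanishes over a nonempty open subscheme. -/
theorem exists_open {X : Scheme.{u}} {f : X ⟶ Spec (CommRingCat.of A)} [LocallyOfFiniteType f]
    [QuasiCompact f] {δ : Spec (CommRingCat.of A) → ℤ}
    (hA : IsSetup (Spec (CommRingCat.of A)) δ) {δX : X → ℤ} (hX : DeltaCompat f δX δ) {n : ℤ}
    (hn : ∀ x, δ (Spec.map (CommRingCat.ofHom (algebraMap A K)) x) = n) {P : Scheme.{u}}
    {p : P ⟶ X} {q : P ⟶ Spec (CommRingCat.of K)}
    (h : IsPullback p q f (Spec.map (CommRingCat.ofHom (algebraMap A K)))) {δP : P → ℤ}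
    (hP : DeltaCompat q δP (fun _ => 0)) {j : ℤ} {α : AlgebraicCycle X ℤ} (hα : α ∈ Zk X δX j)
    {α' : AlgebraicCycle P ℤ} (hα' : ⇑α' = pullFun p δP δX (-n) ⇑α)
    (h0 : RatEquivZero δP (j - n) α') :
    ∃ (U Q : Scheme.{u}) (g : U ⟶ Spec (CommRingCat.of A)) (a : Q ⟶ X) (b : Q ⟶ U)
      (β : AlgebraicCycle Q ℤ), IsOpenImmersion g ∧ Nonempty U ∧ IsPullback a b f g ∧
      (∀ z, β z = α (a z)) ∧ RatEquivZero (fun z => δX (a z)) j β := by
  have i1 := isDirected A K
  have i2 : Nonempty (Idx A K) := ⟨i0 A K⟩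
  have d := dat (K := K) hA hn
  have hP' : DeltaCompat q (fun z => δP z + n) (fun _ => n) := by
    intro z
    obtain ⟨m, h1, h2⟩ := hP z
    refine ⟨m, h1, ?_⟩
    change δP z + n = n + m
    rw [h2]
    ring
  have i3 : ∀ i : Idx A K, IsOpenImmersion (pullback.fst f (Spec.map (s A K i))) := fun i =>
    MorphismProperty.of_isPullback (P := @IsOpenImmersion)
      (IsPullback.of_hasPullback f (Spec.map (s A K i))).flip inferInstance
  have hD : ∀ i : Idx A K, DeltaCompat (pullback.snd f (Spec.map (s A K i)))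
      (fun z => δX (pullback.fst f (Spec.map (s A K i)) z))
      (fun x => δ (Spec.map (s A K i) x)) := by
    intro i
    refine K930.PushPull.deltaCompat_of_comp _ (Spec.map (s A K i)) ?_
      (K930.PushPull.deltaCompat_stalk _)
    rw [← pullback.condition]
    exact RelDim.deltaCompat_comp (K930.PushPull.deltaCompat_stalk _) hX
  have hα'' : ⇑α' = pullFun p (fun z => δP z + n) δX 0 ⇑α := by
    rw [hα']
    funext z
    rw [FlatLength.pullFun_apply, FlatLength.pullFun_apply]
    by_cases hz : δP z = δX (p z) + -n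
    · rw [if_pos hz, if_pos (by rw [hz]; ring)]
    · rw [if_neg hz, if_neg (by intro hz'; exact hz (by linarith))]
  obtain ⟨i, β, hβ, hβ0⟩ := LimAlg.exists_zero (fun g => hs A K g) (ht A K) h (i0 A K)
    (hi0 A K) d hX hP' hD (nonempty_isColimit A K).some hα hα''
    ((K309.ProdCl.ratEquivZero_const (c := n) (fun _ => rfl) (by ring)).2 h0)
  refine ⟨_, _, Spec.map (s A K i), pullback.fst f (Spec.map (s A K i)), pullback.snd _ _, β,
    inferInstance, ?_, IsPullback.of_hasPullback _ _, fun z => ?_, hβ0⟩
  · have : Nontrivial i.1 := inferInstance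
    exact (inferInstance : Nonempty (PrimeSpectrum i.1))
  · rw [hβ, K930.OpenImm.pullFun_open _ (K930.PushPull.deltaCompat_stalk _)]

end K303.AffGen
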