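import Groth.Agent.ZCorr.K303.LimAlg
import Groth.Agent.Flat2D.TripleModel
import Groth.Agent.Pi1.H381.ModelC
import Groth.Agent.Etcore.FGLim

/-!
# Families of cycles over an algebraically closed field come from countable algebraically closed fields
-/

set_option autoImplicit false
set_option linter.unusedSectionVars false
set_option linter.unusedVariables false
universe u
open AlgebraicGeometry CategoryTheory CategoryTheory.Limits Opposite Cyc
open Groth.Agent Groth.Agent.CycB
open K308.Grp K309.Bc K309.Dvr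

namespace K303.DescC

open Groth.Agent.CycB.SetupDVR

section Sys

variable {L : Type u} [Field L] (K₁ : Subfield L)

/-- The countable algebraically closed intermediate fields. -/
def Idx : Type u := {K : Subfield L // K₁ ≤ K ∧ Countable K ∧ IsAlgClosed K}

instance : PartialOrder (Idx K₁) := inferInstanceAs (PartialOrder {K : Subfield L // _})

/-- the directed system -/
noncomputable def F : Idx K₁ ⥤ CommRingCat.{u} where
  obj K := CommRingCat.of K.1
  map {K K'} h := CommRingCat.ofHom (Subfield.inclusion h.le)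

/-- the cocone with vertex `L` -/
noncomputable def c : Cocone (F K₁) where
  pt := CommRingCat.of L
  ι :=
    { app := fun K => CommRingCat.ofHom K.1.subtype
      naturality := fun _ _ _ => rfl }

/-- the base field maps to the stages -/
noncomputable def s (K : Idx K₁) : CommRingCat.of K₁ ⟶ (F K₁).obj K :=
  CommRingCat.ofHom (Subfield.inclusion K.2.1)

/-- the base field maps to `L` -/
noncomputable def t : CommRingCat.of K₁ ⟶ (c K₁).pt := CommRingCat.ofHom K₁.subtype

theorem hs {i j : Idx K₁} (g : i ⟶ j) : s K₁ i ≫ (F K₁).map g = s K₁ j := rfl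

theorem ht (i : Idx K₁) : s K₁ i ≫ (c K₁).ι.app i = t K₁ := rfl

variable [IsAlgClosed L]

theorem isDirected : IsDirected (Idx K₁) (fun a b => a ≤ b) := ⟨fun a b => by
  have h1 := a.2.2.1
  have h2 := b.2.2.1
  obtain ⟨K, hK, hK1, hK2⟩ := Pi1.H381.EmbedC.exists_subfield L ((a.1 : Set L) ∪ b.1)
    ((Set.to_countable _).union (Set.to_countable _))
  exact ⟨⟨K, a.2.1.trans (fun x hx => hK (Or.inl hx)), hK1, hK2⟩, fun x hx => hK (Or.inl hx),
    fun x hx => hK (Or.inr hx)⟩⟩

theorem nonempty_isColimit [Countable K₁] [Nonempty (Idx K₁)] : Nonempty (IsColimit (c K₁)) := by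
  have := isDirected K₁
  apply Etcore.FGLim.nonempty_isColimit
  · intro (x : L)
    obtain ⟨K, hK, hK1, hK2⟩ := Pi1.H381.EmbedC.exists_subfield L ((K₁ : Set L) ∪ {x})
      ((Set.to_countable _).union (Set.to_countable _))
    exact ⟨⟨K, fun y hy => hK (Or.inl hy), hK1, hK2⟩, ⟨x, hK (Or.inr rfl)⟩, rfl⟩
  · intro K y z h
    exact ⟨K, 𝟙 K, congrArg _ (Subtype.ext h)⟩

theorem dat : LimAlg.Dat (F K₁) (s K₁) (c K₁) (fun _ => 0) (fun _ _ => 0) (fun _ => 0) where
  setS := isSetup_spec_field _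
  setF K := isSetup_spec_field K.1
  setc := isSetup_spec_field L
  fs K := flat_spec_of_field _
  fF {K K'} g := flat_spec_of_field (k := K.1) _
  fc K := flat_spec_of_field (k := K.1) _
  ss K := shift_zero (K := K.1) _ fun _ => rfl
  sF {K K'} g := shift_zero (K := K'.1) _ fun _ => rfl
  sc K := shift_zero (K := L) _ fun _ => rfl

end Sys

theorem countable_of_fg {S : Type u} [CommRing S] (A : Subalgebra ℤ S) (hA : A.FG) :
    Countable A := by
  have : Algebra.FiniteType ℤ A := (Subalgebra.fg_iff_finiteType A).1 hA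
  obtain ⟨n, f, hf⟩ := Algebra.FiniteType.iff_quotient_mvPolynomial''.1 this
  have : Countable (MvPolynomial (Fin n) ℤ) := by
    rw [← Cardinal.mk_le_aleph0_iff]
    refine MvPolynomial.cardinalMk_le_max_lift.trans ?_
    simp
  exact hf.countable

/-- A family of cycles over an algebraically closed field is defined over a countable algebraically
closed subfield. -/
theorem exists_model {L : Type u} [Field L] [IsAlgClosed L] {P W : Scheme.{u}} (φ : P ⟶ W)
    (q : W ⟶ Spec (CommRingCat.of L)) [IsProper φ] [LocallyOfFiniteType q] [QuasiCompact q]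
    [QuasiSeparated q] {δ : P → ℤ} (hδ : DeltaCompat (φ ≫ q) δ (fun _ => 0)) {n : ℤ}
    {Γ : AlgebraicCycle P ℤ} (hΓ : Γ ∈ Zk P δ n) :
    ∃ (k : Type u) (_ : Field k) (_ : IsAlgClosed k) (_ : Countable k) (σ : k →+* L)
      (P0 W0 : Scheme.{u}) (s0 : P0 ⟶ W0) (w0 : W0 ⟶ Spec (CommRingCat.of k)) (π : P ⟶ P0)
      (b : W ⟶ W0) (δ0 : P0 → ℤ) (Γ0 : AlgebraicCycle P0 ℤ),
      IsPullback π φ s0 b ∧ IsPullback b q w0 (Spec.map (CommRingCat.ofHom σ)) ∧ IsProper s0 ∧
      LocallyOfFiniteType w0 ∧ QuasiCompact w0 ∧ QuasiSeparated w0 ∧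
      DeltaCompat (s0 ≫ w0) δ0 (fun _ => 0) ∧ Γ0 ∈ Zk P0 δ0 n ∧ pullFun π δ δ0 0 ⇑Γ0 = ⇑Γ := by
  have hN : IsNoetherianRing L := inferInstance
  have i1 : LocallyOfFinitePresentation q := inferInstance
  have i2 : LocallyOfFinitePresentation (φ ≫ q) := inferInstance
  obtain ⟨S, hS, PS, WS, φS, gS, pS, qS, h1, h2, h3, h4, h5, h6, h7, -, -⟩ :=
    Flat2D.TripleModel.exists_model_Spec L φ q
  have hSc : Countable S := countable_of_fg S hS
  obtain ⟨K₁, hT, hc1, hac⟩ := Pi1.H381.EmbedC.exists_subfield L (S : Set L) (Set.to_countable _)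
  let a : S →+* K₁ := S.val.toRingHom.codRestrict K₁ (fun x => hT x.2)
  have hai : Spec.map (CommRingCat.ofHom S.val.toRingHom) = Spec.map (CommRingCat.ofHom K₁.subtype) ≫
      Spec.map (CommRingCat.ofHom a) := by
    rw [← Spec.map_comp, ← CommRingCat.ofHom_comp]
    rfl
  -- the model over `K₁`
  let W1 := pullback gS (Spec.map (CommRingCat.ofHom a))
  let g1 : W1 ⟶ Spec (CommRingCat.of K₁) := pullback.snd _ _
  let P1 := pullback φS (pullback.fst gS (Spec.map (CommRingCat.ofHom a)))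
  let φ1 : P1 ⟶ W1 := pullback.snd _ _
  rw [hai] at h2
  let qW : W ⟶ W1 := pullback.lift qS (q ≫ Spec.map (CommRingCat.ofHom K₁.subtype)) (by
    rw [h2.w, Category.assoc])
  have hqW1 : qW ≫ pullback.fst _ _ = qS := pullback.lift_fst _ _ _
  have hW1 : IsPullback qW q g1 (Spec.map (CommRingCat.ofHom K₁.subtype)) := by
    refine IsPullback.of_right (h₁₂ := pullback.fst _ _) (v₁₃ := gS)
      (h₂₂ := Spec.map (CommRingCat.ofHom a)) ?_ (pullback.lift_snd _ _ _)
      (IsPullback.of_hasPullback _ _)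
    rw [pullback.lift_fst]
    exact h2
  let qP : P ⟶ P1 := pullback.lift pS (φ ≫ qW) (by
    rw [h1.w, Category.assoc, hqW1])
  have hP1 : IsPullback qP φ φ1 qW := by
    refine IsPullback.of_right (h₁₂ := pullback.fst _ _) (v₁₃ := φS)
      (h₂₂ := pullback.fst _ _) ?_ (pullback.lift_snd _ _ _)
      (IsPullback.of_hasPullback _ _)
    rw [pullback.lift_fst, hqW1]
    exact h1
  have i3 : IsProper φ1 := inferInstance
  have i4 : LocallyOfFiniteType g1 := inferInstance
  have i5 : QuasiCompact g1 := inferInstance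
  have i6 : QuasiSeparated g1 := inferInstance
  let f : P1 ⟶ Spec (CommRingCat.of K₁) := φ1 ≫ g1
  have i7 : LocallyOfFiniteType f := inferInstance
  have i8 : QuasiCompact f := inferInstance
  have hPf : IsPullback qP (φ ≫ q) f (Spec.map (t K₁)) := hP1.paste_vert hW1
  let i0 : Idx K₁ := ⟨K₁, le_refl _, hc1, hac⟩
  have i9 : Nonempty (Idx K₁) := ⟨i0⟩
  have i10 := isDirected K₁
  choose δD hδD using fun i : Idx K₁ =>
    SetupLft.exists_deltaCompat (pullback.snd f (Spec.map (s K₁ i))) (fun _ => 0)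
  have key : ∃ (K : Subfield L) (hK : K₁ ≤ K) (_ : Countable K) (_ : IsAlgClosed K)
      (δ0 : ↥(pullback f (Spec.map (CommRingCat.ofHom (Subfield.inclusion hK)))) → ℤ)
      (π : P ⟶ pullback f (Spec.map (CommRingCat.ofHom (Subfield.inclusion hK))))
      (Γ0 : AlgebraicCycle (pullback f (Spec.map (CommRingCat.ofHom (Subfield.inclusion hK)))) ℤ),
      DeltaCompat (pullback.snd f (Spec.map (CommRingCat.ofHom (Subfield.inclusion hK)))) δ0
        (fun _ => 0) ∧ π ≫ pullback.fst _ _ = qP ∧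
      π ≫ pullback.snd _ _ = (φ ≫ q) ≫ Spec.map (CommRingCat.ofHom K.subtype) ∧
      Γ0 ∈ Zk _ δ0 n ∧ pullFun π δ δ0 0 ⇑Γ0 = ⇑Γ := by
    obtain ⟨i, Γ0, hΓ0, hΓ0'⟩ := LimAlg.exists_cycle (fun g => hs K₁ g) (ht K₁) hPf i0
      (fun i => i.2.1) (dat K₁) hδ hδD (nonempty_isColimit K₁).some hΓ
    exact ⟨i.1, i.2.1, i.2.2.1, i.2.2.2, δD i, LimAlg.prm (ht K₁) hPf.w i, Γ0, hδD i,
      LimAlg.prm_fst (ht K₁) hPf.w i, LimAlg.prm_snd (ht K₁) hPf.w i, hΓ0, hΓ0'⟩
  obtain ⟨K, hK, hKc, hKa, δ0, π, Γ0, hδ0, hπ1, hπ2, hΓ0, hΓ0'⟩ := key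
  let si : Spec (CommRingCat.of K) ⟶ Spec (CommRingCat.of K₁) :=
    Spec.map (CommRingCat.ofHom (Subfield.inclusion hK))
  let σ : K →+* L := K.subtype
  let s0 : pullback f si ⟶ pullback g1 si :=
    pullback.lift (pullback.fst _ _ ≫ φ1) (pullback.snd _ _) (by
      rw [Category.assoc]
      exact pullback.condition)
  have hs01 : s0 ≫ pullback.fst _ _ = pullback.fst _ _ ≫ φ1 := pullback.lift_fst _ _ _
  have hs02 : s0 ≫ pullback.snd _ _ = pullback.snd _ _ := pullback.lift_snd _ _ _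
  have hs0 : IsPullback (pullback.fst f si) s0 φ1 (pullback.fst g1 si) := by
    refine IsPullback.of_bot (h₃₁ := si) (v₂₁ := pullback.snd _ _) (v₂₂ := g1) ?_
      hs01.symm (IsPullback.of_hasPullback _ _)
    rw [hs02]
    exact IsPullback.of_hasPullback _ _
  have hσ : Spec.map (CommRingCat.ofHom K₁.subtype) = Spec.map (CommRingCat.ofHom σ) ≫ si := by
    rw [← Spec.map_comp]
    rfl
  let b : W ⟶ pullback g1 si :=
    pullback.lift qW (q ≫ Spec.map (CommRingCat.ofHom σ)) (by
      rw [hW1.w, Category.assoc, hσ])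
  have hb1 : b ≫ pullback.fst _ _ = qW := pullback.lift_fst _ _ _
  have hb2 : b ≫ pullback.snd _ _ = q ≫ Spec.map (CommRingCat.ofHom σ) :=
    pullback.lift_snd _ _ _
  have hb : IsPullback b q (pullback.snd g1 si) (Spec.map (CommRingCat.ofHom σ)) := by
    refine IsPullback.of_right (h₁₂ := pullback.fst _ _) (v₁₃ := g1)
      (h₂₂ := si) ?_ hb2 (IsPullback.of_hasPullback _ _)
    rw [hb1, ← hσ]
    exact hW1
  have hπ : IsPullback π φ s0 b := by
    refine IsPullback.of_right (h₁₂ := pullback.fst _ _) (v₁₃ := φ1)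
      (h₂₂ := pullback.fst _ _) ?_ ?_ hs0
    · rw [hπ1, hb1]
      exact hP1
    · apply pullback.hom_ext
      · rw [Category.assoc, hs01, Category.assoc, hb1]
        exact (Category.assoc _ _ _).symm.trans ((congrArg (fun z => z ≫ φ1) hπ1).trans hP1.w)
      · rw [Category.assoc, hs02, Category.assoc, hb2]
        exact hπ2.trans (Category.assoc _ _ _)
  have i11 : IsProper s0 := MorphismProperty.of_isPullback (P := @IsProper) hs0 i3
  exact ⟨K, inferInstance, hKa, hKc, σ, _, _, s0, pullback.snd _ _, π, b, δ0, Γ0, hπ,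
    hb, i11, inferInstance, inferInstance, inferInstance, by rw [hs02]; exact hδ0, hΓ0, hΓ0'⟩

end K303.DescC
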