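import Groth.Agent.Cyc.K309.Dvr
import Groth.Agent.CycA.ProdPoint2
import Groth.Agent.CycA.SectGeom
import Groth.Agent.CycA.LengthCalc
import Groth.Agent.CycA.GenProd2
import Groth.Agent.CycB.FiberMap
import Groth.Agent.ZCorr.K952.FibCycle
import Groth.Agent.Sga2lef.H98.Rtd

/-!
# Extensions of algebraically closed fields and members of families of cycles

`k → L` an extension of an algebraically closed field.

* `exists_gen`: the fibres of `P = P₀ ×_k L → P₀` are irreducible, `gen_*`: properties of the generic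
  point of a fibre;
* `fibreFun_eq`: for a family of cycles on `X ×_L W` defined over `k`, the member at a generic rational
  point of `W` is the pullback of the cycle on `P₀`.
-/

set_option autoImplicit false
set_option linter.unusedSectionVars false
universe u
open AlgebraicGeometry CategoryTheory CategoryTheory.Limits TopologicalSpace Cyc

namespace K303.FibEq

open Groth.Agent Groth.Agent.CycB Groth.Agent.CycB.LocQuot Groth.Agent.CycB.RelDim
open Groth.Agent.CycA.ProdPoint K308.Grp K309.Bc K309.Dvr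

section Gen

variable {k L : Type u} [Field k] [Field L] {σ : k →+* L}
  {P P0 : Scheme.{u}} {r : P ⟶ Spec (CommRingCat.of L)} {r0 : P0 ⟶ Spec (CommRingCat.of k)}
  {π : P ⟶ P0}

theorem isField_stalk_spec (y : Spec (CommRingCat.of L)) :
    IsField ((Spec (CommRingCat.of L)).presheaf.stalk y) := by
  have : y = genericPoint (Spec (CommRingCat.of L)) :=
    Subsingleton.elim (α := PrimeSpectrum L) _ _
  rw [this]
  exact CycA.GenProd.isField_stalk_genericPoint _

variable [IsAlgClosed k] (h : IsPullback π r r0 (Spec.map (CommRingCat.ofHom σ)))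

include h

theorem exists_gen (ξ : P0) : ∃ ω : P, π ω = ξ ∧ ∀ z, π z = ξ → ω ⤳ z := by
  obtain ⟨ω, h1, -, h2⟩ := exists_generic_over h ξ (IsLocalRing.closedPoint L)
  exact ⟨ω, h1, fun z hz => h2 z hz (Subsingleton.elim (α := PrimeSpectrum L) _ _)⟩

theorem ker_gen {ω : P} (hω : ∀ z, π z = π ω → ω ⤳ z) {z : P} (hz : π z = π ω) (hz' : ω ⤳ z) :
    RingHom.ker (Cyc.specMap z ω hz') =
      (IsLocalRing.maximalIdeal (P0.presheaf.stalk (π z))).map (π.stalkMap z).hom := by
  have h1 := ker_specMap_generic h (x := π z) (y := r z) (ω := ω)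
    (fun z' h1 _ => hω z' (h1.trans hz)) hz.symm (Subsingleton.elim (α := PrimeSpectrum L) _ _)
    hz' (specializes_refl _) (specializes_refl _)
  rw [ker_refl, ker_refl] at h1
  have h2 : IsLocalRing.maximalIdeal ((Spec (CommRingCat.of L)).presheaf.stalk (r z)) = ⊥ :=
    IsLocalRing.isField_iff_maximalIdeal_eq.1 (isField_stalk_spec _)
  rw [h2, Ideal.map_bot, sup_bot_eq] at h1
  exact h1

theorem mult_gen {ω : P} (hω : ∀ z, π z = π ω → ω ⤳ z) : FlatLength.mult π ω = 1 := by
  have h1 := ker_gen h hω rfl (specializes_refl ω)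
  rw [ker_refl] at h1
  unfold FlatLength.mult
  rw [← h1, Module.length_eq_one_iff]
  exact isSimpleModule_iff_isCoatom.2 (Ideal.isMaximal_def.1 (IsLocalRing.maximalIdeal.isMaximal _))

variable {δ : P → ℤ} {δ0 : P0 → ℤ} (hδ : DeltaCompat r δ (fun _ => 0))
  (hδ0 : DeltaCompat r0 δ0 (fun _ => 0)) [LocallyOfFiniteType r0]

include hδ hδ0

theorem delta_gen {ω : P} (hω : ∀ z, π z = π ω → ω ⤳ z) : δ ω = δ0 (π ω) := by
  have h1 := flat_spec_of_field (CommRingCat.ofHom σ)
  have h2 := shift_of_isPullback h (shift_zero _ fun _ => rfl) hδ0 hδ ω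
    (fun y hy hyω => hyω.antisymm (hω y hy) |>.eq)
  rwa [add_zero] at h2

theorem pullFun_gen {ω : P} (hω : ∀ z, π z = π ω → ω ⤳ z) (Γ0 : P0 → ℤ) :
    pullFun π δ δ0 0 Γ0 ω = Γ0 (π ω) := by
  rw [FlatLength.pullFun_apply, if_pos (by rw [add_zero]; exact delta_gen h hδ hδ0 hω),
    mult_gen h hω]
  simp

theorem gen_of_ne_zero {w : P} {Γ0 : P0 → ℤ} (hw : pullFun π δ δ0 0 Γ0 w ≠ 0) :
    Γ0 (π w) ≠ 0 ∧ δ w = δ0 (π w) ∧ ∀ z, π z = π w → w ⤳ z := by
  rw [FlatLength.pullFun_apply] at hw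
  have h1 : δ w = δ0 (π w) := by
    by_contra h1
    rw [if_neg (by rwa [add_zero])] at hw
    exact hw rfl
  rw [if_pos (by rwa [add_zero])] at hw
  refine ⟨left_ne_zero_of_mul hw, h1, ?_⟩
  obtain ⟨ω, h2, h3⟩ := exists_gen h (π w)
  have h4 := delta_gen h hδ hδ0 (ω := ω) (fun z hz => h3 z (hz.trans h2))
  have : LocallyOfFiniteType r := lft_of_isPullback h
  have h5 : ω = w := eq_of_delta_eq hδ (h3 w rfl) (by rw [h4, h2, h1])
  rw [← h5]
  intro z hz
  exact h3 z (hz.trans h2)

end Gen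

theorem fibreMult_eq {P C : Scheme.{u}} (g : P ⟶ C) (v w : P) (h : w ⤳ v) :
    AlgEqCyc.fibreMult g v w h = (Module.length (P.presheaf.stalk v) (P.presheaf.stalk v ⧸
      (RingHom.ker (Cyc.specMap v w h) ⊔
        (IsLocalRing.maximalIdeal (C.presheaf.stalk (g v))).map (g.stalkMap v).hom))).toNat := by
  rw [K952.Mult.fibreMult_eq]
  congr 1
  symm
  let A := P.presheaf.stalk v
  let φ : A →ₗ[A] (Cyc.LocQuot v w h ⧸ K952.Mult.fibJ g v w h) :=
    Algebra.linearMap A (Cyc.LocQuot v w h ⧸ K952.Mult.fibJ g v w h)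
  refine CycA.LengthCalc.length_quot_eq_of_surjective φ ?_ _ ?_
  · exact Ideal.Quotient.mk_surjective.comp Ideal.Quotient.mk_surjective
  · ext a
    rw [LinearMap.mem_ker]
    change (Ideal.Quotient.mk (K952.Mult.fibJ g v w h)) (Ideal.Quotient.mk
      (RingHom.ker (Cyc.specMap v w h)) a) = 0 ↔ _
    rw [Ideal.Quotient.eq_zero_iff_mem, K952.Mult.fibJ, ← Ideal.map_map, ← Ideal.mem_comap,
      Ideal.comap_map_of_surjective _ Ideal.Quotient.mk_surjective, ← RingHom.ker_eq_comap_bot,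
      Ideal.mk_ker, sup_comm]

section Fib

open AlgEqCyc K952.Slice K952.FibCycle

variable {k L : Type u} [Field k] [Field L] [IsAlgClosed k] {σ : k →+* L} {X W : Scheme.{u}}
  (p : X ⟶ Spec (CommRingCat.of L)) (q : W ⟶ Spec (CommRingCat.of L)) [LocallyOfFiniteType p]
  [LocallyOfFiniteType q] [IsSeparated q] {P0 W0 : Scheme.{u}} {r0 : P0 ⟶ Spec (CommRingCat.of k)}
  [LocallyOfFiniteType r0] {s0 : P0 ⟶ W0} {π : pullback p q ⟶ P0}
  (hπ : IsPullback π (pullback.fst p q ≫ p) r0 (Spec.map (CommRingCat.ofHom σ))) {b : W ⟶ W0}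
  (hb : π ≫ s0 = pullback.snd p q ≫ b) (u : Spec (CommRingCat.of L) ⟶ W) (hu : u ≫ q = 𝟙 _)
  (hsq : IsPullback (slice p q u hu ≫ π) p s0 (u ≫ b))

/-- The kernel of the stalk map of a slice. -/
theorem ker_stalkMap_slice (x : X) : RingHom.ker ((slice p q u hu).stalkMap x).hom =
    (IsLocalRing.maximalIdeal (W.presheaf.stalk (pullback.snd p q (slice p q u hu x)))).map
      ((pullback.snd p q).stalkMap (slice p q u hu x)).hom := by
  have := isClosedImmersion_pt q u hu
  have h1 := CycA.SectGeom.ker_stalkMap_of_isPullback (isPullback_slice p q u hu) x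
  rw [h1]
  congr 1
  have h2 : ∀ w : W, w = pt u → IntMult.stalkIdeal u.ker w = IsLocalRing.maximalIdeal _ := by
    rintro w rfl
    have h3 := Divis.CartierStalk.ker_stalkMap u (IsLocalRing.closedPoint L)
    refine Eq.trans h3.symm ?_
    have h4 : Function.Surjective (u.stalkMap (IsLocalRing.closedPoint L)).hom :=
      u.stalkMap_surjective _
    have h5 := isField_stalk_spec (L := L) (IsLocalRing.closedPoint L)
    have h6 : (RingHom.ker (u.stalkMap (IsLocalRing.closedPoint L)).hom).IsMaximal := by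
      let _ := h5.toField
      exact RingHom.ker_isMaximal_of_surjective _ h4
    exact IsLocalRing.eq_maximalIdeal h6
  exact h2 _ (snd_slice p q u hu x)

theorem mult_slice (x : X) : FlatLength.mult (slice p q u hu ≫ π) x =
    Module.length ((pullback p q).presheaf.stalk (slice p q u hu x))
      ((pullback p q).presheaf.stalk (slice p q u hu x) ⧸
        ((IsLocalRing.maximalIdeal (P0.presheaf.stalk (π (slice p q u hu x)))).map
          (π.stalkMap (slice p q u hu x)).hom ⊔
        (IsLocalRing.maximalIdeal (W.presheaf.stalk (pullback.snd p q (slice p q u hu x)))).map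
          ((pullback.snd p q).stalkMap (slice p q u hu x)).hom)) := by
  have hcl := isClosedImmersion_slice p q u hu
  have hsurj : Function.Surjective ((slice p q u hu).stalkMap x).hom :=
    (slice p q u hu).stalkMap_surjective x
  have hker := ker_stalkMap_slice p q u hu x
  rw [FiberMap.length_quot_map_of_surjective ((slice p q u hu).stalkMap x).hom hsurj _
    (by rw [hker]; exact le_sup_right), Ideal.map_sup, ← hker,
    (Ideal.map_eq_bot_iff_le_ker _).2 (le_refl (RingHom.ker ((slice p q u hu).stalkMap x).hom)),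
    sup_bot_eq]
  unfold FlatLength.mult
  rw [FiberMap.map_maximalIdeal_comp]

variable {δX : X → ℤ} (hδX : DeltaCompat p δX (fun _ => 0)) {δ : ↥(pullback p q) → ℤ}
  (hδ : DeltaCompat (pullback.fst p q ≫ p) δ (fun _ => 0)) {δ0 : P0 → ℤ}
  (hδ0 : DeltaCompat r0 δ0 (fun _ => 0)) {δW0 : W0 → ℤ} (hδs : DeltaCompat s0 δ0 δW0) {n : ℤ}
  (hn : δW0 (b (pt u)) = n) (hgen : ∀ y : W0, y ⤳ b (pt u) → y = b (pt u))
  {Γ0 : P0 → ℤ} (hΓ0 : ∀ z, δ0 z ≠ n → Γ0 z = 0) {Γ : AlgebraicCycle (pullback p q) ℤ}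
  (hΓ : ⇑Γ = pullFun π δ δ0 0 Γ0)

include hπ hb hsq hδX hδ hδ0 hδs hn hgen hΓ0 hΓ in
/-- The member of a family of cycles defined over `k` at a generic rational point. -/
theorem fibreFun_eq (x : X) : fibreFun p q Γ u hu x =
    pullFun (slice p q u hu ≫ π) δX δ0 (-n) Γ0 x := by
  have hcl := isClosedImmersion_slice p q u hu
  set v := slice p q u hu x with hv
  have hsv : s0 (π v) = b (pt u) := by
    rw [← Scheme.Hom.comp_apply, hb, Scheme.Hom.comp_apply, hv, snd_slice]
  obtain ⟨ω, hω1, hω2⟩ := exists_gen hπ (π v)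
  have hω : ∀ z, π z = π ω → ω ⤳ z := fun z hz => hω2 z (hz.trans hω1)
  have hωv : ω ⤳ v := hω2 v rfl
  have huniq : ∀ w, Γ w ≠ 0 → w ⤳ v → w = ω := by
    intro w hw hwv
    rw [hΓ] at hw
    obtain ⟨h1, h2, h3⟩ := gen_of_ne_zero hπ hδ hδ0 hw
    have h4 : π w ⤳ π v := hwv.map π.continuous
    have h5 : s0 (π w) = b (pt u) := by
      apply hgen
      rw [← hsv]
      exact h4.map s0.continuous
    have h6 : δ0 (π w) = n := by
      by_contra hne
      exact h1 (hΓ0 _ hne)
    have h7 : n ≤ δ0 (π v) := by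
      obtain ⟨m, -, hm⟩ := deltaCompat_iff.1 hδs (π v)
      rw [hm, hsv, hn]
      omega
    have h8 : π w = π v := eq_of_delta_eq hδ0 h4 (by rw [h6]; exact h7)
    have h9 : w ⤳ ω := h3 ω (hω1.trans h8.symm)
    have h10 : ω ⤳ w := hω2 w h8
    exact (h9.antisymm h10).eq
  rw [fibreFun_eq_single p q Γ u hu x ω hωv huniq, hΓ, pullFun_gen hπ hδ hδ0 hω, hω1,
    FlatLength.pullFun_apply]
  change _ = if δX x = δ0 (π v) + -n then
    Γ0 (π v) * ((FlatLength.mult (slice p q u hu ≫ π) x).toNat : ℤ) else 0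
  by_cases h0 : Γ0 (π v) = 0
  · rw [h0, zero_mul, zero_mul, ite_self]
  have h6 : δ0 (π v) = n := by
    by_contra hne
    exact h0 (hΓ0 _ hne)
  have hx0 : δX x = 0 := by
    obtain ⟨m, hm, hm'⟩ := deltaCompat_iff.1 hδs (π v)
    have h7 : m = 0 := by
      rw [hsv, hn, h6] at hm'
      omega
    obtain ⟨m', hm1, hm2⟩ := deltaCompat_iff.1 hδX x
    have h8 := Sga2lef.H98.Rtd.rtd_snd_le hsq x
    have h9 : rtd s0 ((slice p q u hu ≫ π) x) = m := hm
    rw [h9, hm1, h7] at h8
    have h10 : m' = 0 := by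
      have : (m' : Cardinal.{u}) ≤ ((0 : ℕ) : Cardinal.{u}) := h8
      exact_mod_cast Nat.le_zero.1 (by exact_mod_cast this)
    rw [hm2, h10]
    simp
  rw [if_pos (by rw [hx0, h6]; ring)]
  congr 2
  rw [fibreMult_eq, ker_gen hπ hω hω1.symm hωv, mult_slice]

end Fib

end K303.FibEq
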