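import Groth.Agent.ZCorr.K303.AffGen
import Groth.Agent.Cyc.K309.ProdInj
import Groth.Agent.Cyc.K309.LimField

/-!
# Rational equivalence at the generic point

* `exists_open`: a cycle on `P → W`, `W` integral, which is rationally trivial over the generic point
  of `W` is so over a nonempty open subscheme;
* `tor_of_zeroAt`: a class killed by a field extension is torsion;
* `exists_supported`: a class vanishing on an open subscheme is supported on the complement.
-/

set_option autoImplicit false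
set_option linter.unusedSectionVars false
set_option linter.unusedVariables false
universe u
open AlgebraicGeometry CategoryTheory CategoryTheory.Limits Opposite Cyc
open Groth.Agent Groth.Agent.CycB
open K308.Grp K309.Bc K309.Dvr

namespace K303.SpreadGen

open Groth.Agent.CycB.SetupDVR

theorem germ_fromSpec {W : Scheme.{u}} [IsIntegral W] {V : W.Opens} (hV : IsAffineOpen V)
    [Nonempty V] : Spec.map (CommRingCat.ofHom (algebraMap Γ(W, V) W.functionField)) ≫ hV.fromSpec =
      W.fromSpecStalk (genericPoint W) :=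
  hV.fromSpecStalk_eq_fromSpecStalk
    (((genericPoint_spec W).mem_open_set_iff V.isOpen).mpr (by simpa using ‹Nonempty V›))

theorem fromSpecStalk_genericPoint {W : Scheme.{u}} [IsIntegral W]
    (z : Spec (W.presheaf.stalk (genericPoint W))) :
    W.fromSpecStalk (genericPoint W) z = genericPoint W := by
  have h2 : W.fromSpecStalk (genericPoint W) z ∈ Set.range (W.fromSpecStalk (genericPoint W)) :=
    ⟨z, rfl⟩
  rw [Scheme.range_fromSpecStalk] at h2
  exact ((genericPoint_specializes _).antisymm h2).eq.symm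

/-- **Spreading out.** -/
theorem exists_open {W P0 P : Scheme.{u}} [IsIntegral W] {δW : W → ℤ} (hW : IsSetup W δW)
    {s : P0 ⟶ W} [LocallyOfFiniteType s] [QuasiCompact s] {δ0 : P0 → ℤ}
    (hs : DeltaCompat s δ0 δW) {n : ℤ} (hn : δW (genericPoint W) = n) {p : P ⟶ P0}
    {q : P ⟶ Spec (CommRingCat.of W.functionField)}
    (h : IsPullback p q s (W.fromSpecStalk (genericPoint W))) {δP : P → ℤ}
    (hP : DeltaCompat q δP (fun _ => 0)) {j : ℤ} {α : AlgebraicCycle P0 ℤ} (hα : α ∈ Zk P0 δ0 j)
    {α' : AlgebraicCycle P ℤ} (hα' : ⇑α' = pullFun p δP δ0 (-n) ⇑α)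
    (h0 : RatEquivZero δP (j - n) α') :
    ∃ (U Q : Scheme.{u}) (g : U ⟶ W) (a : Q ⟶ P0) (b : Q ⟶ U) (β : AlgebraicCycle Q ℤ),
      IsOpenImmersion g ∧ Nonempty U ∧ IsPullback a b s g ∧ (∀ z, β z = α (a z)) ∧
      RatEquivZero (fun z => δ0 (a z)) j β := by
  obtain ⟨V, hV, hηV, -⟩ := exists_isAffineOpen_mem_and_subset (x := genericPoint W) (U := ⊤) trivial
  have i1 : Nonempty V := ⟨⟨_, hηV⟩⟩
  have i2 : IsFractionRing Γ(W, V) W.functionField := functionField_isFractionRing_of_isAffineOpen W V hV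
  have i3 : IsOpenImmersion hV.fromSpec := hV.isOpenImmersion_fromSpec
  have hc := germ_fromSpec hV
  let X := pullback s hV.fromSpec
  let jX : X ⟶ P0 := pullback.fst _ _
  let f : X ⟶ Spec (CommRingCat.of Γ(W, V)) := pullback.snd _ _
  have hX : IsPullback jX f s hV.fromSpec := IsPullback.of_hasPullback _ _
  have i4 : IsOpenImmersion jX := inferInstance
  have i5 : LocallyOfFiniteType f := inferInstance
  have i6 : QuasiCompact f := inferInstance
  let pX : P ⟶ X := hX.lift p (q ≫ Spec.map (CommRingCat.ofHom (algebraMap Γ(W, V) W.functionField)))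
    (by rw [Category.assoc, hc, h.w])
  have hpX : pX ≫ jX = p := hX.lift_fst _ _ _
  have hpf : pX ≫ f = q ≫ Spec.map (CommRingCat.ofHom (algebraMap Γ(W, V) W.functionField)) :=
    hX.lift_snd _ _ _
  have hPX : IsPullback pX q f
      (Spec.map (CommRingCat.ofHom (algebraMap Γ(W, V) W.functionField))) := by
    refine IsPullback.of_right ?_ hpf hX
    rw [hpX, hc]
    exact h
  have i7 : Flat (Spec.map (CommRingCat.ofHom (algebraMap Γ(W, V) W.functionField))) := by
    rw [HasRingHomProperty.Spec_iff (P := @Flat)]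
    have h : Module.Flat Γ(W, V) W.functionField :=
      IsLocalization.flat W.functionField (nonZeroDivisors Γ(W, V))
    have h2 : (algebraMap Γ(W, V) W.functionField).Flat := (RingHom.flat_algebraMap_iff).2 h
    exact h2
  have i8 : Flat pX := flat_of_isPullback hPX
  let δA : Spec (CommRingCat.of Γ(W, V)) → ℤ := fun x => δW (hV.fromSpec x)
  have hA : IsSetup (Spec (CommRingCat.of Γ(W, V))) δA :=
    SetupLft.isSetup_of_deltaCompat hV.fromSpec hW (K930.PushPull.deltaCompat_stalk hV.fromSpec)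
  let δX : X → ℤ := fun x => δ0 (jX x)
  have hjX : DeltaCompat jX δX δ0 := K930.PushPull.deltaCompat_stalk jX
  have hfX : DeltaCompat f δX δA := by
    refine K930.PushPull.deltaCompat_of_comp _ hV.fromSpec ?_
      (K930.PushPull.deltaCompat_stalk _)
    rw [← hX.w]
    exact RelDim.deltaCompat_comp hjX hs
  have hnA : ∀ x, δA (Spec.map (CommRingCat.ofHom (algebraMap Γ(W, V) W.functionField)) x) = n := by
    intro x
    change δW (hV.fromSpec (Spec.map
      (CommRingCat.ofHom (algebraMap Γ(W, V) W.functionField)) x)) = n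
    rw [← Scheme.Hom.comp_apply, hc, fromSpecStalk_genericPoint, hn]
  have hsh1 : Shift (Spec.map (CommRingCat.ofHom (algebraMap Γ(W, V) W.functionField)))
      (fun _ => 0) δA (-n) := fun x _ => by rw [hnA x, add_neg_cancel]
  have hsh : Shift pX δP δX (-n) := shift_of_isPullback hPX hsh1 hfX hP
  have hXs : IsSetup X δX := SetupLft.isSetup_of_deltaCompat f hA hfX
  have hPs : IsSetup P δP := setup_of_isPullback (isSetup_spec_field W.functionField) h hP
  let αX : AlgebraicCycle X ℤ := RatTransport.comapCycle jX jX.isOpenEmbedding.injective α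
  have hαX : ⇑αX = pullFun jX δX δ0 0 ⇑α := by
    funext x
    rw [K930.OpenImm.pullFun_open jX hjX]
    rfl
  have hα'' : ⇑α' = pullFun pX δP δX (-n) ⇑αX := by
    rw [hαX, pullFun_pullFun hPs.2.2 hXs.2.2 pX jX hsh (K930.OpenImm.shift_open jX hjX), hα',
      hpX, add_zero]
  obtain ⟨U, Q, g, a, b, β, j1, j2, j3, j4, j5⟩ := AffGen.exists_open (K := W.functionField) hA hfX
    hnA hPX hP (RatTransport.comapCycle_mem_Zk jX jX.isOpenEmbedding.injective δ0 j α hα) hα'' h0
  refine ⟨U, Q, g ≫ hV.fromSpec, a ≫ jX, b, β, inferInstance, j2, j3.paste_horiz hX, fun z => ?_, ?_⟩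
  · rw [j4]
    rfl
  · exact j5

/-- A class which is killed by a field extension is torsion. -/
theorem tor_of_zeroAt {k K : Type u} [Field k] [Field K] (φ : k →+* K) {X : Scheme.{u}}
    {f : X ⟶ Spec (CommRingCat.of k)} [LocallyOfFiniteType f] [QuasiCompact f] {δ : X → ℤ}
    (hδ : DeltaCompat f δ (fun _ => 0)) {n : ℤ} {α : AlgebraicCycle X ℤ} (hα : α ∈ Zk X δ n)
    (h : ZeroAt f hδ (cl δ α) φ) : ∃ m : ℤ, m ≠ 0 ∧ m • cl δ α = 0 := by
  let _ := φ.toAlgebra
  obtain ⟨s, hs⟩ := K309.LimField.exists_stage (K := K) hδ hα h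
  obtain ⟨m, hm, hx⟩ := K309.TorFg.tor_adjoin_finset (k := k) s X _ δ hδ _ hs
  exact ⟨m, hm, hx⟩

/-- A class which vanishes on an open subscheme is supported on the complement. -/
theorem exists_supported {X U : Scheme.{u}} {δ : X → ℤ} {δU : U → ℤ} (hX : IsSetup X δ)
    (hU : IsSetup U δU) (j : U ⟶ X) [IsOpenImmersion j] {c : ℤ} (hj : Shift j δU δ c) {l : ℤ}
    {α : AlgebraicCycle X ℤ} (hα : α ∈ Zk X δ l) (ha : pull hU hX j hj (cl δ α) = 0) :
    ∃ γ : AlgebraicCycle X ℤ, γ ∈ Zk X δ l ∧ (∀ x ∈ Set.range ⇑j, γ x = 0) ∧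
      RatEquiv δ l α γ := by
  let V : X.Opens := j.opensRange
  let δV : ↥(↑V : Scheme.{u}) → ℤ := fun v => δ (V.ι v)
  have hVc : DeltaCompat V.ι δV δ := K930.PushPull.deltaCompat_stalk V.ι
  have hV : IsSetup (V : Scheme.{u}) δV := SetupLft.isSetup_of_deltaCompat V.ι hX hVc
  have hVs : Shift V.ι δV δ 0 := K930.OpenImm.shift_open V.ι hVc
  have he : j.isoOpensRange.inv ≫ j = V.ι := j.isoOpensRange_inv_comp
  have hes : Shift j.isoOpensRange.inv δV δU (-c) := by
    intro v _
    have h2 : FlatDiv.FibGen j (j.isoOpensRange.inv v) := fun y hy _ =>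
      j.isOpenEmbedding.injective hy
    have h1 := hj _ h2
    have h3 : j (j.isoOpensRange.inv v) = V.ι v := by
      rw [← he]; rfl
    rw [h3] at h1
    change δ (V.ι v) = _
    omega
  have hVs' : Shift (j.isoOpensRange.inv ≫ j) δV δ 0 := by rw [he]; exact hVs
  have hz : pull hV hX (j.isoOpensRange.inv ≫ j) hVs' (cl δ α) = 0 := by
    rw [← pull_pull hV hU hX j.isoOpensRange.inv j hes hj hVs' (by ring) (cl δ α), ha, map_zero]
  have hz' : pull hV hX V.ι hVs (cl δ α) = 0 := by
    rw [K309.Gys.pull_congr hV hX he.symm hVs hVs', hz]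
  let β : AlgebraicCycle (V : Scheme.{u}) ℤ :=
    RatTransport.comapCycle V.ι V.ι.isOpenEmbedding.injective α
  have hβ : ⇑β = pullFun V.ι δV δ 0 ⇑α := by
    funext v
    rw [K930.OpenImm.pullFun_open V.ι hVc]
    rfl
  rw [pull_cl hV hX V.ι hVs hβ, cl_eq_zero_iff (RatTransport.comapCycle_mem_Zk _ _ _ _ _ hα)] at hz'
  obtain ⟨γ, hγ1, hγ0, hγ⟩ := Groth.Agent.S1863.result X δ hX V l α 0 hα (fun _ _ => rfl) β 0
    (fun _ => rfl) (fun _ => rfl) (by
      change RatEquivZero δV l (β - 0)
      rw [sub_zero]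
      exact hz')
  rw [zero_add] at hγ
  exact ⟨γ, hγ1, fun x hx => hγ0 x hx, hγ⟩

end K303.SpreadGen
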