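import Groth.Agent.ZCorr.K303.FibEq
import Groth.Agent.ZCorr.K303.DescC
import Groth.Agent.ZCorr.K303.SpreadGen
import Groth.Agent.AlgSp.K600.GeomLift
import Groth.Agent.Variety.K431.GeomGenFib
import Groth.Agent.S9840

/-!
# Families of rationally trivial cycles (Bloch and Srinivas)

If all the members of a family of cycles over an integral scheme `W` over an uncountable algebraically
closed field are rationally trivial, then a nonzero multiple of the total cycle is rationally trivial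
over a nonempty open subset of `W`.
-/

set_option autoImplicit false
set_option linter.unusedSectionVars false
set_option linter.unusedVariables false
universe u
open AlgebraicGeometry CategoryTheory CategoryTheory.Limits Opposite Cyc
open Groth.Agent Groth.Agent.CycB
open K308.Grp K309.Bc K309.Dvr

namespace K303.GenMain

open Groth.Agent.CycB.SetupDVR

theorem isIntegral_of_flat_surjective {X Y : Scheme.{u}} (f : X ⟶ Y) [Flat f] [Surjective f]
    [IsIntegral X] : IsIntegral Y := by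
  have h1 : IsReduced Y := Groth.Agent.S9840.result f
  have h2 : IrreducibleSpace Y := by
    have h3 : IsPreirreducible (Set.range f) := by
      rw [← Set.image_univ]
      exact (PreirreducibleSpace.isPreirreducible_univ).image f f.continuous.continuousOn
    rw [Set.range_eq_univ.2 f.surjective] at h3
    have h4 : Nonempty Y := ⟨f (genericPoint X)⟩
    have h5 : PreirreducibleSpace Y := ⟨h3⟩
    exact { toPreirreducibleSpace := h5, toNonempty := h4 }
  exact isIntegral_of_irreducibleSpace_of_isReduced Y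

theorem genericPoint_of_surjective {X Y : Scheme.{u}} (f : X ⟶ Y) [Surjective f]
    [IsIntegral X] [IsIntegral Y] : f (genericPoint X) = genericPoint Y := by
  obtain ⟨x, hx⟩ := f.surjective (genericPoint Y)
  have h1 : f (genericPoint X) ⤳ genericPoint Y := by
    rw [← hx]
    exact (genericPoint_specializes x).map f.continuous
  exact (h1.antisymm (genericPoint_specializes _)).eq

theorem surjective_spec_field {k L : Type u} [Field k] [Field L] (σ : k →+* L) :
    Surjective (Spec.map (CommRingCat.ofHom σ)) :=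
  ⟨fun y => ⟨IsLocalRing.closedPoint L, Subsingleton.elim (α := PrimeSpectrum k) _ _⟩⟩

open AlgEqCyc K952.Slice

/-- A geometric point over the generic point. -/
theorem exists_geom_point {k L : Type u} [Field k] [Field L] [IsAlgClosed k] [Countable k]
    [IsAlgClosed L] [Uncountable L] (σ : k →+* L) {W0 : Scheme.{u}} [IsIntegral W0]
    (w0 : W0 ⟶ Spec (CommRingCat.of k)) [LocallyOfFiniteType w0] :
    ∃ u0 : Spec (CommRingCat.of L) ⟶ W0, u0 ≫ w0 = Spec.map (CommRingCat.ofHom σ) ∧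
      u0 (IsLocalRing.closedPoint L) = genericPoint W0 := by
  obtain ⟨V, hV, hηV, -⟩ := exists_isAffineOpen_mem_and_subset (x := genericPoint W0) (U := ⊤) trivial
  have : Infinite k := IsAlgClosed.instInfinite
  refine K600.GeomLift.exists_point_lift w0 (genericPoint W0) (Spec.map (CommRingCat.ofHom σ))
    (Subsingleton.elim (α := PrimeSpectrum k) _ _) ?_
  refine ((K431.GeomGenFib.card_residueField_le k w0 hV _ hηV).trans ?_).trans_lt
    (Cardinal.aleph0_lt_mk : Cardinal.aleph0 < Cardinal.mk L)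
  exact Cardinal.mk_le_aleph0

/-- A point through the generic point factors through the function field. -/
theorem exists_functionField {L : Type u} [Field L] {W0 : Scheme.{u}} [IsIntegral W0]
    (u0 : Spec (CommRingCat.of L) ⟶ W0) (h : u0 (IsLocalRing.closedPoint L) = genericPoint W0) :
    ∃ ψ : W0.functionField →+* L,
      Spec.map (CommRingCat.ofHom ψ) ≫ W0.fromSpecStalk (genericPoint W0) = u0 := by
  have h1 : ∀ v : W0, u0 (IsLocalRing.closedPoint L) = v → ∃ ψ : W0.presheaf.stalk v ⟶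
      CommRingCat.of L, Spec.map ψ ≫ W0.fromSpecStalk v = u0 := by
    rintro v rfl
    exact ⟨_, Scheme.Spec_stalkClosedPointTo_fromSpecStalk u0⟩
  obtain ⟨ψ, hψ⟩ := h1 _ h
  exact ⟨ψ.hom, hψ⟩

/-- Torsion at the generic point. -/
theorem tor_generic {L : Type u} [Field L] {W0 P0 : Scheme.{u}} [IsIntegral W0] {δW : W0 → ℤ}
    (hW : IsSetup W0 δW) {s : P0 ⟶ W0} [LocallyOfFiniteType s] [QuasiCompact s] {δ0 : P0 → ℤ}
    (hs : DeltaCompat s δ0 δW) {n : ℤ} (hn : δW (genericPoint W0) = n)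
    {u0 : Spec (CommRingCat.of L) ⟶ W0} (hu0 : u0 (IsLocalRing.closedPoint L) = genericPoint W0)
    {X : Scheme.{u}} {g : X ⟶ P0} {p : X ⟶ Spec (CommRingCat.of L)} (h : IsPullback g p s u0)
    {δX : X → ℤ} (hδX : DeltaCompat p δX (fun _ => 0)) {Γ0 : AlgebraicCycle P0 ℤ}
    (hΓ0 : Γ0 ∈ Zk P0 δ0 n) {β : AlgebraicCycle X ℤ} (hβ : ⇑β = pullFun g δX δ0 (-n) ⇑Γ0)
    (h0 : RatEquivZero δX 0 β) :
    ∃ (m : ℤ) (P : Scheme.{u}) (a : P ⟶ P0) (q : P ⟶ Spec (CommRingCat.of W0.functionField))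
      (δP : P → ℤ) (Γ1 : AlgebraicCycle P ℤ), m ≠ 0 ∧
      IsPullback a q s (W0.fromSpecStalk (genericPoint W0)) ∧ DeltaCompat q δP (fun _ => 0) ∧
      ⇑Γ1 = pullFun a δP δ0 (-n) ⇑(m • Γ0) ∧ RatEquivZero δP 0 Γ1 := by
  obtain ⟨ψ, hψ⟩ := exists_functionField u0 hu0
  let η : Spec (CommRingCat.of W0.functionField) ⟶ W0 := W0.fromSpecStalk (genericPoint W0)
  have hη : Flat η := K309.ProdInj.flat_fromSpecStalk W0 (genericPoint W0)
  have hP : IsPullback (pullback.fst s η) (pullback.snd s η) s η := IsPullback.of_hasPullback _ _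
  obtain ⟨δP, hδP⟩ := SetupLft.exists_deltaCompat (pullback.snd s η) (fun _ => 0)
  have hPs : IsSetup (pullback s η) δP :=
    setup_of_isPullback (isSetup_spec_field W0.functionField) hP hδP
  have hηs : Shift η (fun _ => 0) δW (-n) := by
    rw [← hn]
    exact K309.ProdInj.shift_fromSpecStalk δW
  have hfs : Shift (pullback.fst s η) δP δ0 (-n) := shift_of_isPullback hP hηs hs hδP
  have i1 : Flat (pullback.fst s η) := flat_of_isPullback hP
  have hP0s : IsSetup P0 δ0 := SetupLft.isSetup_of_deltaCompat s hW hs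
  obtain ⟨Γ1, hΓ1⟩ := exists_pull hPs (pullback.fst s η) hfs Γ0
  have hΓ1Z : Γ1 ∈ Zk _ δP 0 := by
    intro z hz
    rw [hΓ1, FlatLength.pullFun_apply]
    split_ifs with h1
    · rw [hΓ0 _ (fun h2 => hz (by rw [h1, h2, add_neg_cancel])), zero_mul]
    · rfl
  -- the base change to `L`
  let g' : X ⟶ pullback s η := pullback.lift g (p ≫ Spec.map (CommRingCat.ofHom ψ)) (by
    rw [h.w, Category.assoc, ← hψ])
  have hg1 : g' ≫ pullback.fst s η = g := pullback.lift_fst _ _ _
  have hg2 : g' ≫ pullback.snd s η = p ≫ Spec.map (CommRingCat.ofHom ψ) := pullback.lift_snd _ _ _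
  have hg' : IsPullback g' p (pullback.snd s η) (Spec.map (CommRingCat.ofHom ψ)) := by
    refine IsPullback.of_right ?_ hg2 hP
    rw [hg1, hψ]
    exact h
  have i2 := flat_spec_of_field (CommRingCat.ofHom ψ)
  have i3 : Flat g' := flat_of_isPullback hg'
  have hXs : IsSetup X δX := setup_of_isPullback (isSetup_spec_field L) hg' hδX
  have hg's : Shift g' δX δP 0 :=
    shift_of_isPullback hg' (shift_zero _ fun _ => rfl) hδP hδX
  have hβ' : ⇑β = pullFun g' δX δP 0 ⇑Γ1 := by
    rw [hΓ1, pullFun_pullFun hXs.2.2 hPs.2.2 g' (pullback.fst s η) hg's hfs, hβ, hg1, zero_add]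
  have hz : ZeroAt (pullback.snd s η) hδP (cl δP Γ1) ψ := by
    refine zeroAt_of hg' hδX ?_
    unfold bcF
    rw [bc_cl _ _ _ _ hg' hδX hβ']
    exact cl_eq_zero_of_ratEquivZero h0
  obtain ⟨m, hm, hm'⟩ := SpreadGen.tor_of_zeroAt ψ hδP hΓ1Z hz
  refine ⟨m, _, pullback.fst s η, pullback.snd s η, δP, m • Γ1, hm, hP, hδP, ?_, ?_⟩
  · funext z
    rw [Function.locallyFinsuppWithin.coe_zsmul, Pi.smul_apply, hΓ1, FlatLength.pullFun_apply,
      FlatLength.pullFun_apply, Function.locallyFinsuppWithin.coe_zsmul, Pi.smul_apply]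
    split_ifs
    · rw [smul_eq_mul, smul_eq_mul, mul_assoc]
    · rw [smul_zero]
  · rw [← map_zsmul] at hm'
    refine (cl_eq_zero_iff ?_).1 hm'
    intro y hy
    rw [Function.locallyFinsuppWithin.coe_zsmul, Pi.smul_apply, hΓ1Z y hy, smul_zero]

/-- **Bloch and Srinivas.** -/
theorem main {L : Type u} [Field L] [IsAlgClosed L] [Uncountable L] {X W : Scheme.{u}}
    (p : X ⟶ Spec (CommRingCat.of L)) (q : W ⟶ Spec (CommRingCat.of L)) [IsProper p]
    [LocallyOfFiniteType q] [QuasiCompact q] [IsSeparated q] [IsIntegral W] {δX : X → ℤ}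
    (hδX : DeltaCompat p δX (fun _ => 0)) {δ : ↥(pullback p q) → ℤ}
    (hδ : DeltaCompat (pullback.fst p q ≫ p) δ (fun _ => 0)) {δW : W → ℤ}
    (hδW : DeltaCompat q δW (fun _ => 0)) {n : ℤ} (hn : δW (genericPoint W) = n)
    {Γ : AlgebraicCycle (pullback p q) ℤ} (hΓ : Γ ∈ Zk _ δ n)
    (hzero : ∀ (u : Spec (CommRingCat.of L) ⟶ W) (hu : u ≫ q = 𝟙 _),
      ∃ β : AlgebraicCycle X ℤ, ⇑β = fibreFun p q Γ u hu ∧ RatEquivZero δX 0 β) :
    ∃ (m : ℤ) (V : Set W) (Q : Scheme.{u}) (j : Q ⟶ pullback p q) (β : AlgebraicCycle Q ℤ),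
      m ≠ 0 ∧ IsOpen V ∧ V.Nonempty ∧ IsOpenImmersion j ∧
      Set.range ⇑j = pullback.snd p q ⁻¹' V ∧ (∀ z, β z = (m • Γ) (j z)) ∧
      RatEquivZero (fun z => δ (j z)) n β := by
  have hδ' : DeltaCompat (pullback.snd p q ≫ q) δ (fun _ => 0) := by
    rw [← pullback.condition]
    exact hδ
  obtain ⟨k, _, _, _, σ, P0, W0, s0, w0, π, b, δ0, Γ0, hπ, hb, i1, i2, i3, i4, hδ0, hΓ0, hΓeq⟩ :=
    DescC.exists_model (pullback.snd p q) q hδ' hΓ
  have i5 : Surjective b := MorphismProperty.of_isPullback (P := @Surjective) hb.flip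
    (surjective_spec_field σ)
  have i6 := flat_spec_of_field (CommRingCat.ofHom σ)
  have i7 : Flat b := flat_of_isPullback hb
  have i8 : Flat π := flat_of_isPullback hπ
  have i9 : IsIntegral W0 := isIntegral_of_flat_surjective b
  obtain ⟨δW0, hδW0⟩ := SetupLft.exists_deltaCompat w0 (fun _ => 0)
  have hδs : DeltaCompat s0 δ0 δW0 := K930.PushPull.deltaCompat_of_comp s0 w0 hδ0 hδW0
  have hbs : Shift b δW δW0 0 := shift_of_isPullback hb (shift_zero _ fun _ => rfl) hδW0 hδW
  have hW0s : IsSetup W0 δW0 := SetupLft.isSetup_of_deltaCompat w0 (isSetup_spec_field k) hδW0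
  have hWs : IsSetup W δW := SetupLft.isSetup_of_deltaCompat q (isSetup_spec_field L) hδW
  have hn0 : δW0 (genericPoint W0) = n := by
    have h1 := hbs (genericPoint W) (fun y _ hy => (hy.antisymm (genericPoint_specializes y)).eq)
    rw [add_zero, genericPoint_of_surjective b, hn] at h1
    exact h1.symm
  -- the geometric generic point
  obtain ⟨u0, hu0, hu0'⟩ := exists_geom_point (L := L) σ w0
  let u : Spec (CommRingCat.of L) ⟶ W := hb.lift u0 (𝟙 _) (by rw [hu0, Category.id_comp])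
  have hub : u ≫ b = u0 := hb.lift_fst _ _ _
  have huq : u ≫ q = 𝟙 _ := hb.lift_snd _ _ _
  have hbu : b (pt u) = genericPoint W0 := by
    rw [← hu0', ← hub]
    rfl
  obtain ⟨β, hβ, hβ0⟩ := hzero u huq
  have hsq : IsPullback (slice p q u huq ≫ π) p s0 (u ≫ b) :=
    (isPullback_slice p q u huq).paste_horiz hπ
  have hπ' : IsPullback π (pullback.fst p q ≫ p) (s0 ≫ w0) (Spec.map (CommRingCat.ofHom σ)) := by
    rw [pullback.condition]
    exact hπ.paste_vert hb
  have hβ' : ⇑β = pullFun (slice p q u huq ≫ π) δX δ0 (-n) ⇑Γ0 := by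
    rw [hβ]
    funext x
    exact FibEq.fibreFun_eq p q hπ' hπ.w u huq hsq hδX hδ hδ0 hδs (by rw [hbu, hn0]) (fun y hy => by
      rw [hbu] at hy ⊢
      exact (hy.antisymm (genericPoint_specializes y)).eq) (fun z hz => hΓ0 z hz) hΓeq.symm x
  obtain ⟨m, P1, a1, q1, δ1, Γ1, hm, hP1, hδ1, hΓ1, hΓ1'⟩ := tor_generic hW0s hδs hn0 hu0'
    (hub ▸ hsq) hδX hΓ0 hβ' hβ0
  have hmΓ0 : m • Γ0 ∈ Zk P0 δ0 n := by
    intro y hy
    rw [Function.locallyFinsuppWithin.coe_zsmul, Pi.smul_apply, hΓ0 y hy, smul_zero]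
  obtain ⟨U, Q, g, a, b', β', j1, j2, j3, j4, j5⟩ := SpreadGen.exists_open hW0s hδs hn0 hP1 hδ1 hmΓ0
    hΓ1 (by rw [sub_self]; exact hΓ1')
  have i10 : IsOpenImmersion a := MorphismProperty.of_isPullback (P := @IsOpenImmersion) j3.flip j1
  have hmΓ : m • Γ ∈ Zk _ δ n := by
    intro y hy
    rw [Function.locallyFinsuppWithin.coe_zsmul, Pi.smul_apply, hΓ y hy, smul_zero]
  let j : pullback π a ⟶ pullback p q := pullback.fst _ _
  let r : pullback π a ⟶ Q := pullback.snd _ _
  have i11 : IsOpenImmersion j := inferInstance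
  have hr : IsPullback j r π a := IsPullback.of_hasPullback _ _
  have i12 : Flat r := MorphismProperty.of_isPullback (P := @Flat) hr i8
  have hPs : IsSetup (pullback p q) δ :=
    SetupLft.isSetup_of_deltaCompat _ (isSetup_spec_field L) hδ
  have hP0s : IsSetup P0 δ0 := SetupLft.isSetup_of_deltaCompat s0 hW0s hδs
  have hjc : DeltaCompat j (fun z => δ (j z)) δ := K930.PushPull.deltaCompat_stalk j
  have hac : DeltaCompat a (fun z => δ0 (a z)) δ0 := K930.PushPull.deltaCompat_stalk a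
  have hjs : IsSetup (pullback π a) (fun z => δ (j z)) := SetupLft.isSetup_of_deltaCompat j hPs hjc
  have hQs : IsSetup Q (fun z => δ0 (a z)) := SetupLft.isSetup_of_deltaCompat a hP0s hac
  have hπs : Shift π δ δ0 0 := shift_of_isPullback hπ' (shift_zero _ fun _ => rfl) hδ0 hδ
  have hjsh := K930.OpenImm.shift_open j hjc
  have hash := K930.OpenImm.shift_open a hac
  have hjπ : Shift (j ≫ π) (fun z => δ (j z)) δ0 0 := by
    have := K308.Grp.Shift.comp hjsh hπs
    rwa [add_zero] at this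
  have hra : Shift (r ≫ a) (fun z => δ (j z)) δ0 0 := by
    rw [← hr.w]
    exact hjπ
  have hrs : Shift r (fun z => δ (j z)) (fun z => δ0 (a z)) 0 := by
    intro z hz
    have h1 := hra z (fun y hy hyz => hz y (a.isOpenEmbedding.injective hy) hyz)
    exact h1
  let γ : AlgebraicCycle (pullback π a) ℤ :=
    RatTransport.comapCycle j j.isOpenEmbedding.injective (m • Γ)
  have hγ : ⇑γ = pullFun j (fun z => δ (j z)) δ 0 ⇑(m • Γ) := by
    funext z
    rw [K930.OpenImm.pullFun_open j hjc]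
    rfl
  refine ⟨m, b ⁻¹' (Set.range ⇑g), pullback π a, j, γ, hm, ?_, ?_, i11, ?_, fun z => rfl, ?_⟩
  · exact g.isOpenEmbedding.isOpen_range.preimage b.continuous
  · obtain ⟨x⟩ := j2
    obtain ⟨y, hy⟩ := b.surjective (g x)
    exact ⟨y, x, hy.symm⟩
  · rw [range_of_isPullback hr.flip.flip, range_of_isPullback j3, ← Set.preimage_comp,
      ← Set.preimage_comp]
    congr 1
    funext z
    exact congr($(hπ.w) z)
  · refine (cl_eq_zero_iff (RatTransport.comapCycle_mem_Zk _ _ _ _ _ hmΓ)).1 ?_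
    have h1 : pull hjs hPs j hjsh (cl δ (m • Γ)) = cl _ γ := pull_cl hjs hPs j hjsh hγ
    have h2 : pull hPs hP0s π hπs (cl δ0 (m • Γ0)) = cl δ (m • Γ) := by
      rw [map_zsmul, map_zsmul, map_zsmul, pull_cl hPs hP0s π hπs hΓeq.symm]
    have h3 : pull hQs hP0s a hash (cl δ0 (m • Γ0)) = 0 := by
      rw [pull_cl hQs hP0s a hash (β := β') (by
        funext z
        rw [K930.OpenImm.pullFun_open a hac]
        exact j4 z)]
      exact cl_eq_zero_of_ratEquivZero j5
    rw [← h1, ← h2, pull_pull hjs hPs hP0s j π hjsh hπs hjπ (by ring),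
      K309.Gys.pull_congr hjs hP0s hr.w hjπ hra,
      ← pull_pull hjs hQs hP0s r a hrs hash hra (by ring), h3, map_zero]

end K303.GenMain
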