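import Groth.Agent.Cyc.K309.Dvr
import Groth.Agent.S6497
import Groth.Agent.S6495
import Mathlib.CategoryTheory.Limits.Types.Filtered

/-!
# Chow groups of base changes along a directed system of rings

`F : I ⥤ CommRingCat` a directed system of flat `k`-algebras with colimit `c`, `f : X → Spec k` of
finite type.

* `coneIsLimit`: the base change of `X` to the colimit is the limit of the base changes to the stages;
* `exists_cycle`: cycles on the limit come from a stage;
* `exists_zero`: a class on `X` vanishing on the limit vanishes on a stage.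
-/

set_option autoImplicit false
set_option linter.unusedSectionVars false
universe u
open AlgebraicGeometry CategoryTheory CategoryTheory.Limits Opposite Cyc
open Groth.Agent Groth.Agent.CycB
open K308.Grp K309.Bc K309.Dvr

namespace K303.LimAlg

variable {I : Type u} [Preorder I] {F : I ⥤ CommRingCat.{u}} {k : CommRingCat.{u}}
  {s : ∀ i, k ⟶ F.obj i} (hs : ∀ {i j : I} (g : i ⟶ j), s i ≫ F.map g = s j)
  {X : Scheme.{u}} (f : X ⟶ Spec k)

/-- transition maps of the base changes -/
noncomputable def trm {i j : I} (g : i ⟶ j) :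
    pullback f (Spec.map (s j)) ⟶ pullback f (Spec.map (s i)) :=
  pullback.lift (pullback.fst _ _) (pullback.snd _ _ ≫ Spec.map (F.map g)) (by
    rw [Category.assoc, ← Spec.map_comp, hs, pullback.condition])

@[reassoc]
theorem trm_fst {i j : I} (g : i ⟶ j) : trm hs f g ≫ pullback.fst _ _ = pullback.fst _ _ :=
  pullback.lift_fst _ _ _

@[reassoc]
theorem trm_snd {i j : I} (g : i ⟶ j) : trm hs f g ≫ pullback.snd _ _ =
    pullback.snd _ _ ≫ Spec.map (F.map g) := pullback.lift_snd _ _ _

/-- The system of base changes. -/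
noncomputable def D : Iᵒᵖ ⥤ Scheme.{u} where
  obj i := pullback f (Spec.map (s i.unop))
  map g := trm hs f g.unop
  map_id i := by
    apply pullback.hom_ext
    · rw [trm_fst, Category.id_comp]
    · rw [trm_snd, Category.id_comp, unop_id, F.map_id, Spec.map_id, Category.comp_id]
  map_comp g h := by
    apply pullback.hom_ext
    · rw [trm_fst, Category.assoc, trm_fst, trm_fst]
    · rw [trm_snd, Category.assoc, trm_snd, trm_snd_assoc, ← Spec.map_comp, unop_comp, F.map_comp]

variable {f} {c : Cocone F} {t : k ⟶ c.pt} (ht : ∀ i, s i ≫ c.ι.app i = t)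
  {P : Scheme.{u}} {p : P ⟶ X} {q : P ⟶ Spec c.pt}

/-- the projections from the base change to the colimit -/
noncomputable def prm (w : p ≫ f = q ≫ Spec.map t) (i : I) : P ⟶ pullback f (Spec.map (s i)) :=
  pullback.lift p (q ≫ Spec.map (c.ι.app i)) (by rw [Category.assoc, ← Spec.map_comp, ht, w])

@[reassoc]
theorem prm_fst (w : p ≫ f = q ≫ Spec.map t) (i : I) : prm ht w i ≫ pullback.fst _ _ = p :=
  pullback.lift_fst _ _ _

@[reassoc]
theorem prm_snd (w : p ≫ f = q ≫ Spec.map t) (i : I) : prm ht w i ≫ pullback.snd _ _ =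
    q ≫ Spec.map (c.ι.app i) := pullback.lift_snd _ _ _

theorem prm_trm (w : p ≫ f = q ≫ Spec.map t) {i j : I} (g : i ⟶ j) :
    prm ht w j ≫ trm hs f g = prm ht w i := by
  apply pullback.hom_ext
  · rw [Category.assoc, trm_fst, prm_fst, prm_fst]
  · rw [Category.assoc, trm_snd, prm_snd_assoc, prm_snd, ← Spec.map_comp, c.w]

variable (h : IsPullback p q f (Spec.map t))

/-- The cone with vertex the base change to the colimit. -/
noncomputable def cone : Cone (D hs f) where
  pt := P
  π :=
    { app := fun i => prm ht h.w i.unop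
      naturality := fun _ _ g => (Category.id_comp _).trans (prm_trm hs ht h.w g.unop).symm }

variable (c) in
/-- the limit cone of spectra -/
noncomputable def specCone : Cone (F.op ⋙ Scheme.Spec) := Scheme.Spec.mapCone c.op

/-- the limit cone of spectra -/
noncomputable def specConeIsLimit (hc : IsColimit c) : IsLimit (specCone c) :=
  isLimitOfPreserves Scheme.Spec hc.op

theorem w_trm (E : Cone (D hs f)) {i j : Iᵒᵖ} (g : i ⟶ j) :
    E.π.app i ≫ trm hs f g.unop = E.π.app j := E.w g

/-- the cone of spectra under a cone of schemes -/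
noncomputable def sndCone (E : Cone (D hs f)) : Cone (F.op ⋙ Scheme.Spec) where
  pt := E.pt
  π :=
    { app := fun i => E.π.app i ≫ pullback.snd _ _
      naturality := fun i j g => by
        refine (Category.id_comp _).trans ?_
        have h1 : (E.π.app i ≫ trm hs f g.unop) ≫ pullback.snd _ _ =
            (E.π.app i ≫ pullback.snd _ _) ≫ Spec.map (F.map g.unop) :=
          (Category.assoc _ _ _).trans ((congrArg (fun z => E.π.app i ≫ z)
            (trm_snd hs f g.unop)).trans (Category.assoc _ _ _).symm)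
        rw [w_trm hs E g] at h1
        exact h1 }

theorem fst_eq (E : Cone (D hs f)) {i j : Iᵒᵖ} (g : i ⟶ j) :
    (E.π.app i ≫ pullback.fst _ _ : E.pt ⟶ X) = E.π.app j ≫ pullback.fst _ _ := by
  have h1 : (E.π.app i ≫ trm hs f g.unop) ≫ pullback.fst _ _ =
      (E.π.app i ≫ pullback.fst _ _ : E.pt ⟶ X) :=
    (Category.assoc _ _ _).trans (congrArg (fun z => E.π.app i ≫ z) (trm_fst hs f g.unop))
  rw [w_trm hs E g] at h1
  exact h1.symm

variable (i0 : I) (hi0 : ∀ i, i0 ≤ i)

/-- the component of a cone of base changes in `X` -/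
noncomputable def toX (E : Cone (D hs f)) : E.pt ⟶ X := E.π.app (op i0) ≫ pullback.fst _ _

include hi0 in
theorem fst_eq_bot (E : Cone (D hs f)) (i : Iᵒᵖ) :
    toX hs i0 E = E.π.app i ≫ pullback.fst _ _ :=
  (fst_eq hs E (homOfLE (hi0 i.unop)).op).symm

/-- the component of a cone of base changes in `Spec K` -/
noncomputable def toK (hc : IsColimit c) (E : Cone (D hs f)) : E.pt ⟶ Spec c.pt :=
  (specConeIsLimit hc).lift (sndCone hs E)

theorem toK_pr (hc : IsColimit c) (E : Cone (D hs f)) (i : Iᵒᵖ) :
    toK hs hc E ≫ Spec.map (c.ι.app i.unop) = E.π.app i ≫ pullback.snd _ _ :=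
  (specConeIsLimit hc).fac (sndCone hs E) i

include ht in
theorem toX_comp (hc : IsColimit c) (E : Cone (D hs f)) :
    toX hs i0 E ≫ f = toK hs hc E ≫ Spec.map t := by
  have h1 : Spec.map t = Spec.map (c.ι.app i0) ≫ Spec.map (s i0) := by
    rw [← Spec.map_comp, ht]
  have h2 := toK_pr hs hc E (op i0)
  unfold toX
  calc (E.π.app (op i0) ≫ pullback.fst _ _) ≫ f
      = E.π.app (op i0) ≫ pullback.fst f (Spec.map (s i0)) ≫ f := Category.assoc _ _ _
    _ = E.π.app (op i0) ≫ pullback.snd f (Spec.map (s i0)) ≫ Spec.map (s i0) :=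
        congrArg (fun z => E.π.app (op i0) ≫ z) pullback.condition
    _ = (E.π.app (op i0) ≫ pullback.snd f (Spec.map (s i0))) ≫ Spec.map (s i0) :=
        (Category.assoc _ _ _).symm
    _ = (toK hs hc E ≫ Spec.map (c.ι.app i0)) ≫ Spec.map (s i0) :=
        congrArg (fun z => z ≫ Spec.map (s i0)) h2.symm
    _ = toK hs hc E ≫ Spec.map t := by rw [Category.assoc, ← h1]

include hi0 in
/-- The base change to the colimit is the limit of the base changes to the stages. -/
theorem nonempty_isLimit (hc : IsColimit c) : Nonempty (IsLimit (cone hs ht h)) :=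
  ⟨{ lift := fun E => h.lift (toX hs i0 E) (toK hs hc E) (toX_comp hs ht i0 hc E)
     fac := fun E i => by
      apply pullback.hom_ext
      · refine (Category.assoc _ _ _).trans ((congrArg _ (prm_fst ht h.w i.unop)).trans ?_)
        exact (h.lift_fst _ _ _).trans (fst_eq_bot hs i0 hi0 E i)
      · refine (Category.assoc _ _ _).trans ((congrArg _ (prm_snd ht h.w i.unop)).trans ?_)
        exact (Category.assoc _ _ _).symm.trans ((congrArg (fun z => z ≫ Spec.map (c.ι.app i.unop))
          (h.lift_snd _ _ _)).trans (toK_pr hs hc E i))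
     uniq := fun E m hm => by
      apply h.hom_ext
      · rw [h.lift_fst, fst_eq_bot hs i0 hi0 E (op i0), ← hm (op i0)]
        exact ((Category.assoc _ _ _).trans (congrArg _ (prm_fst ht h.w i0))).symm
      · rw [h.lift_snd]
        refine (specConeIsLimit hc).hom_ext fun i => ?_
        refine Eq.trans ?_ (toK_pr hs hc E i).symm
        rw [← hm i]
        exact (Category.assoc _ _ _).trans ((Category.assoc _ _ _).trans
          (congrArg _ (prm_snd ht h.w i.unop))).symm }⟩

/-! ### Chow groups -/

section Chow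

variable (F s c) in
/-- Flatness and dimension functions for a directed system of rings. -/
structure Dat (δS : Spec k → ℤ) (δF : ∀ i, Spec (F.obj i) → ℤ) (δc : Spec c.pt → ℤ) : Prop where
  setS : IsSetup (Spec k) δS
  setF : ∀ i, IsSetup (Spec (F.obj i)) (δF i)
  setc : IsSetup (Spec c.pt) δc
  fs : ∀ i, Flat (Spec.map (s i))
  fF : ∀ {i j : I} (g : i ⟶ j), Flat (Spec.map (F.map g))
  fc : ∀ i, Flat (Spec.map (c.ι.app i))
  ss : ∀ i, Shift (Spec.map (s i)) (δF i) δS 0
  sF : ∀ {i j : I} (g : i ⟶ j), Shift (Spec.map (F.map g)) (δF j) (δF i) 0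
  sc : ∀ i, Shift (Spec.map (c.ι.app i)) δc (δF i) 0

variable {δS : Spec k → ℤ} {δF : ∀ i, Spec (F.obj i) → ℤ} {δc : Spec c.pt → ℤ}
  (d : Dat F s c δS δF δc) [LocallyOfFiniteType f] {δX : X → ℤ} (hX : DeltaCompat f δX δS)
  {δP : P → ℤ} (hP : DeltaCompat q δP δc)
  {δD : ∀ i, ↥(pullback f (Spec.map (s i))) → ℤ}
  (hD : ∀ i, DeltaCompat (pullback.snd f (Spec.map (s i))) (δD i) (δF i))

theorem sqt {i j : I} (g : i ⟶ j) : IsPullback (trm hs f g)
    (pullback.snd f (Spec.map (s j))) (pullback.snd f (Spec.map (s i))) (Spec.map (F.map g)) := by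
  refine IsPullback.of_right ?_ (trm_snd hs f g) (IsPullback.of_hasPullback _ _)
  rw [trm_fst, ← Spec.map_comp, hs]
  exact IsPullback.of_hasPullback _ _

include h in
theorem sqp (i : I) : IsPullback (prm ht h.w i) q (pullback.snd f (Spec.map (s i)))
    (Spec.map (c.ι.app i)) := by
  refine IsPullback.of_right ?_ (prm_snd ht h.w i) (IsPullback.of_hasPullback _ _)
  rw [prm_fst, ← Spec.map_comp, ht]
  exact h

include d in
theorem flat_prm (i : I) : Flat (prm ht h.w i) :=
  have := d.fc i
  flat_of_isPullback (sqp ht h i)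

include d in
theorem flat_trm {i j : I} (g : i ⟶ j) : Flat (trm hs f g) :=
  have := d.fF g
  flat_of_isPullback (sqt hs g)

include d in
theorem flat_fst (i : I) : Flat (pullback.fst f (Spec.map (s i))) :=
  have := d.fs i
  flat_of_isPullback (IsPullback.of_hasPullback f (Spec.map (s i)))

include d hX hD in
theorem shift_fst (i : I) : Shift (pullback.fst f (Spec.map (s i))) (δD i) δX 0 :=
  have := d.fs i
  shift_of_isPullback (IsPullback.of_hasPullback f (Spec.map (s i))) (d.ss i) hX (hD i)

include d hP hD in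
theorem shift_prm (i : I) : Shift (prm ht h.w i) δP (δD i) 0 :=
  have := d.fc i
  shift_of_isPullback (sqp ht h i) (d.sc i) (hD i) hP

include d hD in
theorem shift_trm {i j : I} (g : i ⟶ j) : Shift (trm hs f g) (δD j) (δD i) 0 :=
  have := d.fF g
  shift_of_isPullback (sqt hs g) (d.sF g) (hD i) (hD j)

include d hD in
theorem setup_D (i : I) : IsSetup (pullback f (Spec.map (s i))) (δD i) :=
  setup_of_isPullback (d.setF i) (IsPullback.of_hasPullback f (Spec.map (s i))) (hD i)

include h d hP in
theorem setup_P : IsSetup P δP := setup_of_isPullback d.setc h hP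

theorem compactSpace_D [QuasiCompact f] (i : I) :
    CompactSpace ↥(pullback f (Spec.map (s i))) :=
  QuasiCompact.compactSpace_of_compactSpace (pullback.snd f (Spec.map (s i)))

variable [IsDirected I (fun a b => a ≤ b)] [Nonempty I] [QuasiCompact f] (hc : IsColimit c)

include hs hi0 hc d hP hD in
/-- Cycles on the limit come from a stage. -/
theorem exists_cycle {n : ℤ} {Γ : AlgebraicCycle P ℤ} (hΓ : Γ ∈ Zk P δP n) :
    ∃ (i : I) (Γi : AlgebraicCycle (pullback f (Spec.map (s i))) ℤ), Γi ∈ Zk _ (δD i) n ∧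
      pullFun (prm ht h.w i) δP (δD i) 0 ⇑Γi = ⇑Γ := by
  obtain ⟨i, Γi, h1, h2⟩ := Groth.Agent.S6495.result I (D hs f) (cone hs ht h)
    (nonempty_isLimit hs ht h i0 hi0 hc).some (fun i j g =>
      MorphismProperty.of_isPullback (P := @IsAffineHom) (sqt hs g.unop).flip inferInstance)
    (fun i j g => flat_trm hs d g.unop) (fun i => compactSpace_D i.unop)
    (fun i => δD i.unop) δP (fun i => setup_D d hD i.unop) (setup_P h d hP)
    (fun i j g x hx => by
      have h2 := shift_trm hs d hD g.unop x hx
      rw [add_zero] at h2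
      exact h2) (fun i => flat_prm ht h d i.unop) (fun i x hx => by
      have h2 := shift_prm ht h d hP hD i.unop x hx
      rw [add_zero] at h2
      exact h2) n Γ hΓ
  exact ⟨i.unop, Γi, h1, h2⟩

include hs ht h hi0 hc d hX hP hD in
/-- A cycle on `X` which is rationally trivial on the limit is so on a stage. -/
theorem exists_zero {n : ℤ} {α : AlgebraicCycle X ℤ} (hα : α ∈ Zk X δX n)
    {α' : AlgebraicCycle P ℤ} (hα' : ⇑α' = pullFun p δP δX 0 ⇑α) (h0 : RatEquivZero δP n α') :
    ∃ (i : I) (αi : AlgebraicCycle (pullback f (Spec.map (s i))) ℤ),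
      ⇑αi = pullFun (pullback.fst f (Spec.map (s i))) (δD i) δX 0 ⇑α ∧
      RatEquivZero (δD i) n αi := by
  have i1 := flat_fst (f := f) (c := c) d i0
  have i2 := flat_prm ht h d i0
  obtain ⟨α₀, hα₀⟩ := exists_pull (setup_D d hD i0) (pullback.fst f (Spec.map (s i0)))
    (shift_fst d hX hD i0) α
  have hα₀n : α₀ ∈ Zk _ (δD i0) n := by
    intro z hz
    rw [hα₀, FlatLength.pullFun_apply]
    split_ifs with h1
    · rw [hα _ (fun h2 => hz (by rw [h1, h2, add_zero])), zero_mul]
    · rfl
  have hcomp : ⇑α' = pullFun (prm ht h.w i0) δP (δD i0) 0 ⇑α₀ := by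
    rw [hα₀, pullFun_pullFun (setup_P h d hP).2.2 (setup_D d hD i0).2.2 _ _
      (shift_prm ht h d hP hD i0) (shift_fst d hX hD i0), prm_fst, hα']
    rfl
  obtain ⟨j, g, αj, hj1, hj2⟩ := Groth.Agent.S6497.result I (D hs f) (cone hs ht h)
    (nonempty_isLimit hs ht h i0 hi0 hc).some (fun i j g =>
      MorphismProperty.of_isPullback (P := @IsAffineHom) (sqt hs g.unop).flip inferInstance)
    (fun i j g => flat_trm hs d g.unop) (fun i => compactSpace_D i.unop)
    (fun i => δD i.unop) δP (fun i => setup_D d hD i.unop) (setup_P h d hP)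
    (fun i j g x hx => by
      have h2 := shift_trm hs d hD g.unop x hx
      rw [add_zero] at h2
      exact h2) (fun i => flat_prm ht h d i.unop) (fun i x hx => by
      have h2 := shift_prm ht h d hP hD i.unop x hx
      rw [add_zero] at h2
      exact h2) n (op i0) α₀ hα₀n α' hcomp h0
  refine ⟨j.unop, αj, ?_, hj2⟩
  have i3 := flat_trm hs (f := f) (c := c) d g.unop
  have h3 := pullFun_pullFun (setup_D d hD j.unop).2.2 (setup_D d hD i0).2.2 (trm hs f g.unop)
      (pullback.fst f (Spec.map (s i0))) (shift_trm hs d hD g.unop) (shift_fst d hX hD i0) ⇑α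
  rw [trm_fst, ← hα₀] at h3
  exact hj1.trans h3

end Chow

end K303.LimAlg
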